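import Groth.Agent.AsympCoh.Hom

/-!
# Higher cohomology above the dimension of the stable base locus
-/

set_option linter.style.haveILetI false
set_option linter.unusedSectionVars false
set_option backward.isDefEq.respectTransparency false
set_option backward.isDefEq.respectTransparency.types false
set_option maxHeartbeats 1000000

universe u

open CategoryTheory CategoryTheory.Limits AlgebraicGeometry TopologicalSpace Opposite Filter Topology
open Groth.Agent.H23.PicMul W4c5asymptcohfn

attribute [local instance] HasDerivedCategory.standard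

noncomputable section

namespace Groth.Agent.AsympCoh

open Groth.Agent Groth.Agent.HilbPoly

variable {X : Scheme.{u}}

theorem isClosed_stableBaseLocus (L : X.Modules) : IsClosed (stableBaseLocus X L) := by
  refine isClosed_iInter fun m => ?_
  rw [baseLocus, Set.ext (fun x => show x ∈ {x : X | ∀ s : Coh.structureModule X ⟶ CohB1.tensorPow L (m + 1),
    x ∉ CohB1.genLocus (CohB1.tensorPow L (m + 1)) s} ↔ x ∈ ⋂ s : Coh.structureModule X ⟶ CohB1.tensorPow L (m + 1),
      ((CohB1.genLocus (CohB1.tensorPow L (m + 1)) s : Set X))ᶜ by simp)]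
  exact isClosed_iInter fun s => (CohB1.genLocus _ s).2.isClosed_compl

variable (k : Type u) [Field k] [X.Over (Spec (CommRingCat.of k))] [IsProper (X ↘ Spec (CommRingCat.of k))]

/-- `h^i(F ⊗ L^m) = O(m^{e})` for `dim Supp F ≤ e + 1` and `i` above the stable base locus. -/
theorem growth_above_baseLocus {L : X.Modules} (hL : PicF.IsInvertible L) {d : ℕ}
    (hd : topologicalKrullDim ↥(stableBaseLocus X L) ≤ (d : WithBot ℕ∞)) {i : ℕ} (hi : d < i) :
    ∀ (e : ℕ) (F : X.Modules), Coh.IsCoh F → DimLT F (e + 2) →
      ∃ C, ∀ l : List X.Modules, (∀ P ∈ l, P ∈ ({L} : Finset X.Modules)) →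
        hdimk k (twl l F) i ≤ C * (l.length + 1) ^ e := by
  haveI : IsNoetherian X := CurveCohLib.isNoetherian_of_proper (k := k)
  have hS : ∀ P ∈ ({L} : Finset X.Modules), PicF.IsInvertible P := by simpa using hL
  have hrep : ∀ l : List X.Modules, (∀ P ∈ l, P ∈ ({L} : Finset X.Modules)) → l = List.replicate l.length L :=
    fun l hl => List.eq_replicate_iff.2 ⟨rfl, fun P hP => Finset.mem_singleton.1 (hl P hP)⟩
  have hinv : ∀ N, AllInv (List.replicate N L) := fun N P hP => List.eq_of_mem_replicate hP ▸ hL
  have hbase : ∀ {A : X.Modules} {ξ : X} {e : ℕ}, IsPiece A ξ e → ξ ∈ stableBaseLocus X L →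
      ∀ N, hdimk k (twl (List.replicate N L) A) i = 0 := fun {A ξ e} hA hξ N =>
    hdimk_eq_zero_of_dimLT k (isCoh_twl (hinv N) hA.coh)
      (dimLT_twl (d := d + 1) (dimLT_of_subset
        (hA.supp.trans ((isClosed_stableBaseLocus L).closure_subset_iff.2 (Set.singleton_subset_iff.2 hξ)))
        (lt_succ_of_le hd)) _) (by omega)
  have hstep : ∀ {A : X.Modules} {ξ : X} {e : ℕ}, IsPiece A ξ e → ξ ∉ stableBaseLocus X L →
      ∃ (ν : ℕ) (C : X.Modules), 0 < ν ∧ Coh.IsCoh C ∧ DimLT C e ∧ ∀ N,
        hdimk k (twl (List.replicate (N + ν) L) A) i ≤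
          hdimk k (twl (List.replicate N L) A) i + hdimk k (twl (List.replicate N L) C) i := by
    intro A ξ e hA hξ
    simp only [stableBaseLocus, baseLocus, Set.mem_iInter, Set.mem_setOf_eq, not_forall, not_not] at hξ
    obtain ⟨m, s, hs⟩ := hξ
    obtain ⟨C, hC, hCd, h⟩ := hA.coker k (InvX.isInvertible_tensorPow hL (m + 1)) s hs
    refine ⟨m + 1, C, Nat.succ_pos m, hC, hCd, fun N => le_of_eq_of_le ?_ (h _ (hinv N) i).2⟩
    obtain ⟨e'⟩ := cl_eq_iff.1 (show PicF.cl (twl (List.replicate (N + (m + 1)) L) A) =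
        PicF.cl (twl (List.replicate N L) (CohB1.tensorMod A (CohB1.tensorPow L (m + 1)))) by
      rw [cl_twl, cl_twl, List.map_replicate, List.map_replicate, List.prod_replicate, List.prod_replicate,
        cl_tensor, cl_tensorPow, mul_assoc, ← pow_add, Nat.add_comm N])
    exact finrank_HH_iso k e' i
  intro e
  induction e with
  | zero =>
    intro F hF hdim
    refine devissage_bound k hS (fun A ξ hA => ?_) hF hdim
    by_cases hξ : ξ ∈ stableBaseLocus X L
    · refine ⟨0, fun l hl => le_of_eq ?_⟩
      rw [zero_mul, hrep l hl, hbase hA hξ]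
    · obtain ⟨ν, C, hν, hC, hCd, h⟩ := hstep hA hξ
      refine ⟨∑ q ∈ Finset.range ν, hdimk k (twl (List.replicate q L) A) i, fun l hl => ?_⟩
      rw [hrep l hl, pow_zero, mul_one]
      generalize l.length = N
      induction N using Nat.strong_induction_on with
      | _ N ihN =>
        rcases Nat.lt_or_ge N ν with hN | hN
        · exact Finset.single_le_sum (f := fun q => hdimk k (twl (List.replicate q L) A) i)
            (fun q _ => Nat.zero_le _) (Finset.mem_range.2 hN)
        · obtain ⟨M, rfl⟩ : ∃ M, N = M + ν := ⟨N - ν, by omega⟩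
          have h1 := h M
          rw [hdimk_eq_zero_of_dimLT k (isCoh_twl (hinv M) hC) (dimLT_twl hCd _) (by omega : 0 + 1 ≤ i),
            add_zero] at h1
          exact h1.trans (ihN M (by omega))
  | succ e IH =>
    intro F hF hdim
    refine devissage_bound k hS (fun A ξ hA => ?_) hF hdim
    by_cases hξ : ξ ∈ stableBaseLocus X L
    · refine ⟨0, fun l hl => le_of_eq ?_⟩
      rw [zero_mul, hrep l hl, hbase hA hξ]
    · obtain ⟨ν, C, hν, hC, hCd, h⟩ := hstep hA hξ
      obtain ⟨K, hK⟩ := IH C hC hCd
      obtain ⟨K', hK'⟩ := pow_add_le hν (fun N => hdimk k (twl (List.replicate N L) A) i) (C := K) (i := e)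
        fun N => (h N).trans (Nat.add_le_add_left ((hK _ fun P hP => by simp [List.eq_of_mem_replicate hP]).trans
          (Nat.mul_le_mul_left _ (Nat.pow_le_pow_left (by simp only [List.length_replicate]; omega) e))) _)
      refine ⟨K', fun l hl => ?_⟩
      conv_lhs => rw [hrep l hl]
      exact hK' l.length

/-- `ĥ^i(L) = 0` above the dimension of the stable base locus. -/
theorem hhat_eq_zero_above_baseLocus {n : ℕ} (hn : topologicalKrullDim X = n) {L : X.Modules}
    (hL : PicF.IsInvertible L) {d : ℕ} (hd : topologicalKrullDim ↥(stableBaseLocus X L) ≤ (d : WithBot ℕ∞))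
    {i : ℕ} (hi : d < i) : hhat k X n i L = 0 := by
  haveI : IsNoetherian X := CurveCohLib.isNoetherian_of_proper (k := k)
  rw [hhat_eq_hhatF, hhatF]
  refine Tendsto.limsup_eq ?_
  cases n with
  | zero =>
    refine tendsto_const_nhds.congr fun m => ?_
    rw [cohSeq_eq, hdimk_eq_zero_of_dimLT k (isCoh_pw hL QCoh.isCoh_structureModule' m) (d := 1)
      (dimLT_of_subset (support_tensor_subset _ _) (dimLT_of_dim hn (Coh.structureModule X))) (by omega)]
    simp
  | succ e =>
    obtain ⟨C, hC⟩ := growth_above_baseLocus k hL hd hi e _ QCoh.isCoh_structureModule'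
      (dimLT_of_dim hn (Coh.structureModule X))
    have h0 := (tendsto_E (e + 1) 1).const_mul ((C : ℝ) * (e + 1).factorial)
    rw [mul_zero] at h0
    refine squeeze_zero_norm (fun m => ?_) h0
    have h := hC (List.replicate m L) fun P hP => by simp [List.eq_of_mem_replicate hP]
    rw [hdimk_twl_replicate, List.length_replicate] at h
    rw [cohSeq_eq, Real.norm_eq_abs, abs_of_nonneg (by positivity), E, one_mul, ← mul_div_assoc,
      mul_right_comm (C : ℝ)]
    refine div_le_div_of_nonneg_right (mul_le_mul_of_nonneg_right ?_ (by positivity)) (by positivity)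
    exact_mod_cast h

end Groth.Agent.AsympCoh
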