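import Groth.Agent.AsympCoh.Rank

/-!
# Modules with cohomology equal up to lower order terms
-/

set_option linter.style.haveILetI false
set_option linter.unusedSectionVars false
set_option backward.isDefEq.respectTransparency false
set_option backward.isDefEq.respectTransparency.types false
set_option maxHeartbeats 1000000

universe u

open CategoryTheory CategoryTheory.Limits AlgebraicGeometry TopologicalSpace Opposite Filter
open Groth.Agent.H23.PicMul W4c5asymptcohfn

attribute [local instance] HasDerivedCategory.standard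

noncomputable section

namespace Groth.Agent.AsympCoh

open Groth.Agent Groth.Agent.HilbPoly

variable {X : Scheme.{u}} {H : X.Modules}
variable (k : Type u) [Field k] [X.Over (Spec (CommRingCat.of k))] [IsProper (X ↘ Spec (CommRingCat.of k))]

/-- Cohomology in degree `i` of the twists by powers of `L` agrees up to `O(m^{n-1})`. -/
def Close (n i : ℕ) (F G L : X.Modules) : Prop :=
  ∃ K : ℕ, ∀ m, hdimk k (pw L F m) i ≤ hdimk k (pw L G m) i + K * E n m ∧
    hdimk k (pw L G m) i ≤ hdimk k (pw L F m) i + K * E n m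

variable {k}

theorem Close.symm {n i : ℕ} {F G L : X.Modules} (h : Close k n i F G L) : Close k n i G F L :=
  let ⟨K, hK⟩ := h
  ⟨K, fun m => (hK m).symm⟩

theorem Close.trans {n i : ℕ} {F G G' L : X.Modules} (h : Close k n i F G L) (h' : Close k n i G G' L) :
    Close k n i F G' L := by
  obtain ⟨K, hK⟩ := h
  obtain ⟨K', hK'⟩ := h'
  refine ⟨K + K', fun m => ?_⟩
  obtain ⟨a, b⟩ := hK m
  obtain ⟨c, d⟩ := hK' m
  rw [add_mul]
  omega

variable (k)

/-- `ĥ(X, F, L)` along a short exact sequence with a small end. -/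
theorem close_ses (hH : CohB1.IsAmple H) {n : ℕ} (hn : topologicalKrullDim X = n) {L : X.Modules}
    (hL : PicF.IsInvertible L) {S : ShortComplex X.Modules} (hS : S.ShortExact) (h₁ : Coh.IsCoh S.X₁)
    (h₂ : Coh.IsCoh S.X₂) (h₃ : Coh.IsCoh S.X₃) (i : ℕ) :
    (DimLT S.X₁ n → Close k n i S.X₂ S.X₃ L) ∧
    (DimLT S.X₃ n → Close k n i S.X₁ S.X₂ L) := by
  have hS1 : ∀ P ∈ ({L} : Finset X.Modules), PicF.IsInvertible P := by simpa using hL
  have hl : ∀ m, ∀ P ∈ List.replicate m L, P ∈ ({L} : Finset X.Modules) := fun m P hP => by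
    simp [List.eq_of_mem_replicate hP]
  have hses : ∀ m, _ := fun m => twl_ses k hS h₁ h₂ h₃ (l := List.replicate m L)
    (fun P hP => hS1 P (hl m P hP)) i
  constructor <;> intro hd
  · obtain ⟨K₁, hK₁⟩ := bound_E k hH hS1 n _ h₁ hd i
    obtain ⟨K₂, hK₂⟩ := bound_E k hH hS1 n _ h₁ hd (i + 1)
    refine ⟨K₁ + K₂, fun m => ?_⟩
    have a := (hK₁ _ (hl m)).1
    have b := (hK₂ _ (hl m)).1
    obtain ⟨-, c, d⟩ := hses m
    rw [hdimk_twl_replicate, List.length_replicate] at a b
    simp only [hdimk_twl_replicate] at c d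
    rw [add_mul]
    constructor <;> omega
  · obtain ⟨K, hK⟩ := bound_E k hH hS1 n _ h₃ hd i
    refine ⟨K, fun m => ?_⟩
    obtain ⟨a, b⟩ := hK _ (hl m)
    obtain ⟨c, d, -⟩ := hses m
    rw [List.length_replicate] at a b
    simp only [hdimk_twl_replicate] at a c d
    constructor <;> omega

variable [IsIntegral X]

/-- Generic isomorphisms give close modules. -/
theorem close_of_generic (hH : CohB1.IsAmple H) {n : ℕ} (hn : topologicalKrullDim X = n) {L : X.Modules}
    (hL : PicF.IsInvertible L) {M N : X.Modules} (hM : Coh.IsCoh M) (hN : Coh.IsCoh N) (φ : M ⟶ N)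
    (hφ : IsIso ((DerSch.stalkFunctor X (genericPoint X)).map φ)) (i : ℕ) :
    Close k n i M N L := by
  haveI : IsNoetherian X := CurveCohLib.isNoetherian_of_proper (k := k)
  have hK := QCoh.isCoh_kernel hM hN φ
  have hQ := QCoh.isCoh_cokernel hM.1 hN φ
  have hcK := QCoh.isClosed_support_of_isFT hK.1 hK.2
  have hcQ := QCoh.isClosed_support_of_isFT hQ.1 hQ.2
  let U : X.Opens := ⟨(CohB1.support (kernel φ) ∪ CohB1.support (cokernel φ))ᶜ, (hcK.union hcQ).isOpen_compl⟩
  have hU : (U : Set X).Nonempty := ⟨genericPoint X, fun h => h.elim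
    (Snapper.notMem_support_kernel φ inferInstance) (Snapper.notMem_support_cokernel φ inferInstance)⟩
  have hI : Coh.IsCoh (Abelian.image φ) := QCoh.isCoh_kernel hN hQ _
  let S₁ := ShortComplex.mk (kernel.ι φ) (Abelian.factorThruImage φ)
    ((cancel_mono (Abelian.image.ι φ)).1 (by rw [Category.assoc, Abelian.image.fac, kernel.condition, zero_comp]))
  have hS₁ : S₁.ShortExact :=
    { exact := ShortComplex.exact_of_f_is_kernel _ (KernelFork.IsLimit.ofι' _ _ fun {T} t ht =>
        ⟨kernel.lift φ t (by rw [← Abelian.image.fac φ, reassoc_of% ht, zero_comp]), kernel.lift_ι _ _ _⟩)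
      mono_f := inferInstance
      epi_g := inferInstance }
  let S₂ := ShortComplex.mk (Abelian.image.ι φ) (cokernel.π φ) (kernel.condition _)
  have hS₂ : S₂.ShortExact :=
    { exact := ShortComplex.exact_of_f_is_kernel _ (kernelIsKernel (cokernel.π φ))
      mono_f := inferInstance
      epi_g := inferInstance }
  exact ((close_ses k hH hn hL hS₁ hK hM hI i).1
      (dimLT_of_subset_compl k hn hK hU fun x hx h => h (Or.inl hx))).trans
    ((close_ses k hH hn hL hS₂ hI hN hQ i).2 (dimLT_of_subset_compl k hn hQ hU fun x hx h => h (Or.inr hx)))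

/-- A coherent module is close to a free one of the same generic rank. -/
theorem close_free (hH : CohB1.IsAmple H) {n : ℕ} (hn : topologicalKrullDim X = n) {L : X.Modules}
    (hL : PicF.IsInvertible L) {F : X.Modules} (hF : Coh.IsCoh F) {r : ℕ}
    (hr : Module.finrank (X.presheaf.stalk (genericPoint X)) (F.presheaf.stalk (genericPoint X)) = r) (i : ℕ) :
    Close k n i F (FlatMod.freeMod X r) L := by
  haveI : IsNoetherian X := CurveCohLib.isNoetherian_of_proper (k := k)
  haveI : CompactSpace X := QuasiCompact.compactSpace_of_compactSpace (X ↘ Spec (CommRingCat.of k))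
  haveI : X.IsSeparated := AmpleVan.isSeparated_of_proper (X := X) (A := k)
  set η := genericPoint X
  obtain ⟨n₁, h₁⟩ := AmpleX.eventually_generated_fin hH hF.1 hF.2
  obtain ⟨n₂, -, h₂⟩ := AmpleX.eventually_ample_tensor hH CurveDeg.isInvertible_structureModule
  set p := max n₁ n₂
  have hP := InvX.isInvertible_tensorPow hH.1 p
  obtain ⟨c⟩ := H23.PicMul.unit (CohB1.tensorPow H p)
  obtain ⟨s, hs⟩ := S1664.GenSec.exists_mem_genLocus hP
    (AmpleX.isGloballyGenerated_of_iso c (h₂ p (le_max_right _ _)).2) η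
  obtain ⟨U, hU, hηU⟩ : ∃ U : X.Opens,
      IsIso ((Scheme.Modules.restrictFunctor U.ι).map s) ∧ η ∈ U := Opens.mem_sSup.1 hs
  haveI : IsIso ((Scheme.Modules.restrictFunctor U.ι).map s) := hU
  haveI := isIso_restrict_mulHom s F (U := U)
  have hψ : IsIso ((DerSch.stalkFunctor X η).map (mulHom s F)) := ExtShX.isIso_stalk_of_restrict _ hηU
  obtain ⟨G, iso, N, t, ht⟩ := h₁ p (le_max_left _ _)
  have hFp : Coh.IsCoh (CohB1.tensorMod F (CohB1.tensorPow H p)) :=
    AmpleVan.isCoh_tensor hF (AmpleVan.isCoh_invertible hP)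
  have hG : Coh.IsCoh G := QCoh.isCoh_of_mono iso.hom hFp ((QCoh.isQCoh_iff_iso iso).2 hFp.1)
  haveI := QCoh.finite_stalk_of_isFT hG.1 hG.2 η
  let E : (DerSch.stalkFunctor X η).obj F ≅ (DerSch.stalkFunctor X η).obj G :=
    @asIso _ _ _ _ _ hψ ≪≫ (DerSch.stalkFunctor X η).mapIso iso.symm
  have hrG : Module.finrank (X.presheaf.stalk η) (G.presheaf.stalk η) = r :=
    (LinearEquiv.finrank_eq E.toLinearEquiv).symm.trans hr
  obtain ⟨φ, hφ⟩ := exists_free_hom t (ht η) (Field.toIsField X.functionField) hrG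
  exact ((close_of_generic k hH hn hL hF hFp (mulHom s F) hψ i).trans
    (close_of_generic k hH hn hL hFp hG iso.inv inferInstance i)).trans
    (close_of_generic k hH hn hL (isCoh_free r) hG φ hφ i).symm

/-- Cohomology of the twists of a free module. -/
theorem hdimk_pw_freeMod {L : X.Modules} (hL : PicF.IsInvertible L) (r i m : ℕ) :
    hdimk k (pw L (FlatMod.freeMod X r) m) i = r * hdimk k (pw L (Coh.structureModule X) m) i := by
  haveI : IsNoetherian X := CurveCohLib.isNoetherian_of_proper (k := k)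
  haveI := AmpleVan.isEquivalence_tw (InvX.isInvertible_tensorPow hL m)
  haveI : (AmpleVan.tw (CohB1.tensorPow L m)).IsLeftAdjoint := Functor.isLeftAdjoint_of_isEquivalence
  let e : pw L (FlatMod.freeMod X r) m ≅ ∐ fun _ : Fin r => pw L (Coh.structureModule X) m :=
    PreservesCoproduct.iso (AmpleVan.tw (CohB1.tensorPow L m)) _
  rw [hdimk, show Module.finrank k (Coh.HH X (pw L (FlatMod.freeMod X r) m) i) = _ from finrank_HH_iso k e i,
    finrank_HH_copower k (isCoh_pw hL QCoh.isCoh_structureModule' m) r i]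

end Groth.Agent.AsympCoh
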