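import Groth.Agent.AsympCoh.Seq

/-!
# Homogeneity, growth and Lipschitz estimates for asymptotic cohomological functions
-/

set_option linter.style.haveILetI false
set_option linter.unusedSectionVars false
set_option backward.isDefEq.respectTransparency false
set_option backward.isDefEq.respectTransparency.types false
set_option maxHeartbeats 1000000

universe u

open CategoryTheory CategoryTheory.Limits AlgebraicGeometry TopologicalSpace Opposite Filter Topology
open Groth.Agent.H23.PicMul W4c5asymptcohfn

attribute [local instance] HasDerivedCategory.standard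

noncomputable section

namespace Groth.Agent.AsympCoh

open Groth.Agent Groth.Agent.HilbPoly

/-- The coefficient of the Lipschitz estimate. -/
def EE : ℕ → ℕ → ℕ
  | 0, _ => 0
  | d + 1, N => (2 * N) ^ d

theorem E_mul_le_EE (n : ℕ) {m N : ℕ} (hm : 1 ≤ m) (hN : 1 ≤ N) : E n (m * N) * m ≤ EE n N * m ^ n := by
  cases n with
  | zero => simp [E, EE]
  | succ d =>
    simp only [E, EE]
    have hmN : 1 ≤ m * N := Nat.mul_pos hm hN
    calc (m * N + 1) ^ d * m ≤ (2 * N * m) ^ d * m := Nat.mul_le_mul_right _ (Nat.pow_le_pow_left (by nlinarith) d)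
      _ = (2 * N) ^ d * m ^ (d + 1) := by rw [mul_pow, pow_succ, mul_assoc]

variable {X : Scheme.{u}} (k : Type u) [Field k] [X.Over (Spec (CommRingCat.of k))]
  [IsProper (X ↘ Spec (CommRingCat.of k))] {H : X.Modules}

omit [IsProper (X ↘ Spec (CommRingCat.of k))] in
theorem hdimk_pw_one (L : X.Modules) (m i : ℕ) :
    hdimk k (pw L (Coh.structureModule X) m) i = hdimk k (CohB1.tensorPow L m) i := by
  obtain ⟨c⟩ := H23.PicMul.comm (Coh.structureModule X) (CohB1.tensorPow L m)
  exact finrank_HH_iso k
    ((c ≪≫ AmpleVan.twUnit.app _ : pw L (Coh.structureModule X) m ≅ CohB1.tensorPow L m)) i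

omit [IsProper (X ↘ Spec (CommRingCat.of k))] in
theorem hhat_eq_hhatF (n i : ℕ) (L : X.Modules) :
    hhat k X n i L = hhatF k X n i (Coh.structureModule X) L := by
  rw [hhat, hhatF]
  refine congrArg (fun u => limsup u atTop) (funext fun m => ?_)
  rw [cohSeq_eq, hdimk_pw_one]

omit [IsProper (X ↘ Spec (CommRingCat.of k))] in
theorem hdimk_pw_word (M : X.Modules) (l : List X.Modules) (h : (l.map PicF.cl).prod = PicF.cl M) (m i : ℕ) :
    hdimk k (twl (List.replicate m l).flatten (Coh.structureModule X)) i =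
      hdimk k (pw M (Coh.structureModule X) m) i :=
  hdimk_twl_of_cl k (by
    rw [List.map_flatten, List.map_replicate, List.prod_flatten, List.map_replicate, List.prod_replicate, h,
      cl_tensorPow]) i

theorem length_flatten_replicate {α : Type*} (m : ℕ) (l : List α) :
    (List.replicate m l).flatten.length = m * l.length := by simp

theorem mem_flatten_replicate {S : Finset X.Modules} {l : List X.Modules} (hl : ∀ Q ∈ l, Q ∈ S) (m : ℕ) :
    ∀ Q ∈ (List.replicate m l).flatten, Q ∈ S := fun Q hQ => by
  obtain ⟨l₁, h₁, hQ₁⟩ := List.mem_flatten.1 hQ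
  exact hl Q (List.eq_of_mem_replicate h₁ ▸ hQ₁)

/-- Growth in the class. -/
theorem hhat_le_word (hH : CohB1.IsAmple H) {n : ℕ} (hn : topologicalKrullDim X = n) {S : Finset X.Modules}
    (hS : ∀ P ∈ S, PicF.IsInvertible P) (i : ℕ) :
    ∃ C : ℝ, 0 ≤ C ∧ ∀ (l : List X.Modules), (∀ Q ∈ l, Q ∈ S) → ∀ M : X.Modules, PicF.IsInvertible M →
      (l.map PicF.cl).prod = PicF.cl M → hhat k X n i M ≤ C * (l.length : ℝ) ^ n := by
  haveI : IsNoetherian X := CurveCohLib.isNoetherian_of_proper (k := k)
  obtain ⟨C, hC⟩ := growth k hH hS n _ QCoh.isCoh_structureModule' (dimLT_of_dim hn (Coh.structureModule X)) i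
  refine ⟨(C : ℝ) * n.factorial, by positivity, fun l hl M hM hcl => ?_⟩
  rw [hhat_eq_hhatF]
  let w : ℕ → ℝ := fun m => (C : ℝ) * n.factorial * ((l.length : ℝ) + 1 / (m : ℝ)) ^ n
  have hw : Tendsto w atTop (𝓝 ((C : ℝ) * n.factorial * (l.length : ℝ) ^ n)) := by
    have h1 := ((tendsto_one_div_atTop_nhds_zero_nat (𝕜 := ℝ)).const_add (l.length : ℝ)).pow n
    rw [add_zero] at h1
    exact h1.const_mul _
  rw [← hw.limsup_eq]
  refine limsup_le_limsup ((eventually_ge_atTop 1).mono fun m hm => ?_)
    (bdd_cohSeq k hH hn hM QCoh.isCoh_structureModule' i).isCoboundedUnder hw.isBoundedUnder_le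
  have h := hC _ (mem_flatten_replicate hl m)
  rw [hdimk_pw_word k M l hcl, length_flatten_replicate] at h
  have hm' : (0 : ℝ) < (m : ℝ) := by exact_mod_cast hm
  rw [cohSeq_eq, div_le_iff₀ (pow_pos hm' n)]
  show _ ≤ (C : ℝ) * n.factorial * ((l.length : ℝ) + 1 / (m : ℝ)) ^ n * (m : ℝ) ^ n
  rw [mul_assoc _ (((l.length : ℝ) + _) ^ n), ← mul_pow, add_mul, one_div_mul_cancel hm'.ne', mul_right_comm,
    mul_comm (l.length : ℝ)]
  gcongr
  exact_mod_cast h

/-- An invertible module and its powers. -/
theorem prod_ztwist {r : ℕ} (L M : Fin r → X.Modules) (a : Fin r → ℤ) :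
    (((List.finRange r).flatMap fun j => List.replicate (a j).toNat (L j) ++
      List.replicate (-(a j)).toNat (M j)).map PicF.cl).prod = PicF.cl (ztwist X L M a) := by
  rw [List.map_flatMap, List.flatMap_def, List.prod_flatten, List.map_map, ztwist, FGA.multiTwist, FGA.multiTwist, cl_tensor,
    Big.cl_tensorList, Big.cl_tensorList, ← List.prod_map_mul]
  refine congrArg List.prod (List.map_congr_left fun j _ => ?_)
  simp only [Function.comp_apply]
  rw [List.map_append, List.prod_append, List.map_replicate, List.map_replicate, List.prod_replicate,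
    List.prod_replicate, cl_tensorPow, cl_tensorPow]

variable [IsIntegral X]

/-- Lipschitz estimate in the class. -/
theorem hhat_lipschitz (hH : CohB1.IsAmple H) {n : ℕ} (hn : topologicalKrullDim X = n) {S : Finset X.Modules}
    (hS : ∀ P ∈ S, PicF.IsInvertible P) (i : ℕ) :
    ∃ K : ℝ, 0 ≤ K ∧ ∀ (l' l : List X.Modules), (∀ Q ∈ l', Q ∈ S) → (∀ Q ∈ l, Q ∈ S) →
      ∀ M' M : X.Modules, PicF.IsInvertible M' → PicF.IsInvertible M →
      ((l' ++ l).map PicF.cl).prod = PicF.cl M' → (l.map PicF.cl).prod = PicF.cl M →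
      |hhat k X n i M' - hhat k X n i M| ≤ K * l'.length * EE n (l'.length + l.length) := by
  haveI : IsNoetherian X := CurveCohLib.isNoetherian_of_proper (k := k)
  obtain ⟨K, hK⟩ := chain_E k hH hS (isPiece_structure k hn) i
  refine ⟨(K : ℝ) * n.factorial, by positivity, fun l' l hl' hl M' M hM' hM hcl' hcl => ?_⟩
  set c : ℝ := (K : ℝ) * n.factorial * l'.length * EE n (l'.length + l.length)
  have key : ∀ m, 1 ≤ m → |cohSeq k X n i (Coh.structureModule X) M' m -
      cohSeq k X n i (Coh.structureModule X) M m| ≤ c := by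
    intro m hm
    set a := List.replicate m l' with ha
    obtain ⟨h1, h2⟩ := hK a.flatten (List.replicate m l).flatten (mem_flatten_replicate hl' m)
      (mem_flatten_replicate hl m)
    have e : hdimk k (twl (a.flatten ++ (List.replicate m l).flatten) (Coh.structureModule X)) i =
        hdimk k (pw M' (Coh.structureModule X) m) i := by
      refine hdimk_twl_of_cl k ?_ i
      rw [List.map_append, List.prod_append, ha, List.map_flatten, List.map_flatten, List.prod_flatten,
        List.prod_flatten, List.map_replicate, List.map_replicate, List.map_replicate, List.map_replicate,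
        List.prod_replicate, List.prod_replicate, ← mul_pow, ← List.prod_append, ← List.map_append, hcl',
        cl_tensorPow]
    rw [e, hdimk_pw_word k M l hcl, ha, length_flatten_replicate, length_flatten_replicate, ← Nat.mul_add] at h1 h2
    set x := hdimk k (pw M' (Coh.structureModule X) m) i
    set y := hdimk k (pw M (Coh.structureModule X) m) i
    have hbound : K * (m * l'.length) * E n (m * (l'.length + l.length)) ≤
        K * l'.length * EE n (l'.length + l.length) * m ^ n := by
      rcases Nat.eq_zero_or_pos l'.length with h0 | h0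
      · simp [h0]
      · calc K * (m * l'.length) * E n (m * (l'.length + l.length))
            = K * l'.length * (E n (m * (l'.length + l.length)) * m) := by ring
          _ ≤ K * l'.length * (EE n (l'.length + l.length) * m ^ n) :=
            Nat.mul_le_mul_left _ (E_mul_le_EE n hm (by omega))
          _ = _ := by ring
    have a1 : (x : ℝ) ≤ (y : ℝ) + (K : ℝ) * l'.length * EE n (l'.length + l.length) * (m : ℝ) ^ n := by
      exact_mod_cast h1.trans (Nat.add_le_add_left hbound _)
    have a2 : (y : ℝ) ≤ (x : ℝ) + (K : ℝ) * l'.length * EE n (l'.length + l.length) * (m : ℝ) ^ n := by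
      exact_mod_cast h2.trans (Nat.add_le_add_left hbound _)
    have hm' : (0 : ℝ) < (m : ℝ) ^ n := pow_pos (by exact_mod_cast hm) n
    rw [cohSeq_eq, cohSeq_eq, ← sub_div, ← sub_mul, abs_div, abs_mul, Nat.abs_cast, abs_of_pos hm',
      div_le_iff₀ hm']
    calc |(x : ℝ) - y| * n.factorial
        ≤ (K : ℝ) * l'.length * EE n (l'.length + l.length) * (m : ℝ) ^ n * n.factorial := by
          gcongr
          rw [abs_sub_le_iff]
          constructor <;> linarith
      _ = c * (m : ℝ) ^ n := by ring
  rw [hhat_eq_hhatF, hhat_eq_hhatF, abs_sub_le_iff, sub_le_iff_le_add', sub_le_iff_le_add']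
  have b' := bdd_cohSeq k hH hn hM' (QCoh.isCoh_structureModule' (X := X)) i
  have b := bdd_cohSeq k hH hn hM (QCoh.isCoh_structureModule' (X := X)) i
  constructor
  · exact limsup_le_add b' b ((eventually_ge_atTop 1).mono fun m hm => by
      linarith [(abs_sub_le_iff.1 (key m hm)).1])
  · exact limsup_le_add b b' ((eventually_ge_atTop 1).mono fun m hm => by
      linarith [(abs_sub_le_iff.1 (key m hm)).2])

/-- Homogeneity. -/
theorem hhat_tensorPow (hH : CohB1.IsAmple H) {n : ℕ} (hn : topologicalKrullDim X = n) {L : X.Modules}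
    (hL : PicF.IsInvertible L) {a : ℕ} (ha : 1 ≤ a) (i : ℕ) :
    hhat k X n i (CohB1.tensorPow L a) = (a : ℝ) ^ n * hhat k X n i L := by
  haveI : IsNoetherian X := CurveCohLib.isNoetherian_of_proper (k := k)
  have hS : ∀ P ∈ ({L} : Finset X.Modules), PicF.IsInvertible P := by simpa using hL
  have hrep : ∀ m, ∀ P ∈ List.replicate m L, P ∈ ({L} : Finset X.Modules) := fun m P hP => by
    simp [List.eq_of_mem_replicate hP]
  obtain ⟨K, hK⟩ := chain_E k hH hS (isPiece_structure k hn) i
  rw [hhat_eq_hhatF, hhat_eq_hhatF]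
  set u := cohSeq k X n i (Coh.structureModule X) L with hu_def
  have hu_eq : ∀ m, u m = (hdimk k (pw L (Coh.structureModule X) m) i : ℝ) * n.factorial / (m : ℝ) ^ n :=
    fun m => (congrFun hu_def m).trans (cohSeq_eq k n i (Coh.structureModule X) L m)
  clear_value u
  have hu : Bdd01 u := hu_def ▸ bdd_cohSeq k hH hn hL QCoh.isCoh_structureModule' i
  have hmul : Tendsto (fun q => a * q) atTop atTop := tendsto_id.const_mul_atTop' ha
  have hv : Bdd01 fun q => u (a * q) := ⟨fun q => hu.1 _, hu.2.choose, hmul.eventually hu.2.choose_spec⟩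
  obtain ⟨B, hB⟩ := hu.2
  have hstep : ∀ b < a, Tendsto (fun q => u (a * q + b) - u (a * q)) atTop (𝓝 0) := by
    intro b _
    have hlin : Tendsto (fun q => a * q + b) atTop atTop := tendsto_atTop_mono (fun q => Nat.le_add_right _ b) hmul
    have h0 : Tendsto (fun q : ℕ => (K : ℝ) * b * n.factorial *
        ((E n (1 * (a * q + b)) : ℝ) / ((a * q + b : ℕ) : ℝ) ^ n) +
        max B 0 * |((a * q : ℕ) : ℝ) ^ n / ((a * q + b : ℕ) : ℝ) ^ n - 1|) atTop (𝓝 0) := by
      have e1 := ((tendsto_E n 1).comp hlin).const_mul ((K : ℝ) * b * n.factorial)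
      have e2 : Tendsto (fun q : ℕ => ((a * q : ℕ) : ℝ) ^ n / ((a * q + b : ℕ) : ℝ) ^ n) atTop (𝓝 1) := by
        have h := ((tendsto_natCast_div_add_atTop (b : ℝ)).comp hmul).pow n
        rw [one_pow] at h
        refine h.congr fun q => ?_
        simp only [Function.comp_apply, div_pow]
        push_cast
        rfl
      have e3 := ((e2.sub_const 1).abs).const_mul (max B 0)
      simpa using e1.add e3
    refine squeeze_zero_norm' ?_ h0
    filter_upwards [hmul.eventually hB, eventually_ge_atTop 1] with q hq hq1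
    have hm : (0 : ℝ) < ((a * q : ℕ) : ℝ) ^ n :=
      pow_pos (by exact_mod_cast Nat.mul_pos ha hq1) n
    have hm2 : (0 : ℝ) < ((a * q + b : ℕ) : ℝ) ^ n :=
      pow_pos (by exact_mod_cast Nat.add_pos_left (Nat.mul_pos ha hq1) b) n
    obtain ⟨h1, h2⟩ := hK (List.replicate b L) (List.replicate (a * q) L) (hrep b) (hrep (a * q))
    rw [List.replicate_append_replicate, hdimk_twl_replicate, hdimk_twl_replicate, List.length_replicate,
      List.length_replicate, Nat.add_comm b (a * q)] at h1 h2
    set x := hdimk k (pw L (Coh.structureModule X) (a * q + b)) i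
    set y := hdimk k (pw L (Coh.structureModule X) (a * q)) i
    have hxy : |(x : ℝ) - y| ≤ (K : ℝ) * b * E n (a * q + b) := by
      rw [abs_sub_le_iff]
      constructor <;> (rw [sub_le_iff_le_add']; exact_mod_cast ‹_›)
    have e : u (a * q + b) - u (a * q) = ((x : ℝ) - y) * n.factorial / ((a * q + b : ℕ) : ℝ) ^ n +
        u (a * q) * (((a * q : ℕ) : ℝ) ^ n / ((a * q + b : ℕ) : ℝ) ^ n - 1) := by
      rw [hu_eq, hu_eq]
      generalize (x : ℝ) = x', (y : ℝ) = y', (n.factorial : ℝ) = f'
      generalize ((a * q + b : ℕ) : ℝ) ^ n = P at hm2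
      generalize ((a * q : ℕ) : ℝ) ^ n = Q at hm
      field_simp
      ring
    rw [e, Real.norm_eq_abs, one_mul]
    refine (abs_add_le _ _).trans (add_le_add ?_ ?_)
    · rw [abs_div, abs_mul, Nat.abs_cast, abs_of_pos hm2, ← mul_div_assoc]
      refine div_le_div_of_nonneg_right ?_ hm2.le
      calc |(x : ℝ) - y| * n.factorial ≤ (K : ℝ) * b * E n (a * q + b) * n.factorial :=
            mul_le_mul_of_nonneg_right hxy (by positivity)
        _ = _ := by ring
    · rw [abs_mul, abs_of_nonneg (hu.1 _)]
      exact mul_le_mul_of_nonneg_right (hq.trans (le_max_left _ _)) (abs_nonneg _)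
  have hseq : cohSeq k X n i (Coh.structureModule X) (CohB1.tensorPow L a) =
      fun q => (a : ℝ) ^ n * u (a * q) := by
    funext q
    have e : hdimk k (pw (CohB1.tensorPow L a) (Coh.structureModule X) q) i =
        hdimk k (pw L (Coh.structureModule X) (a * q)) i := by
      obtain ⟨e⟩ := cl_eq_iff.1 (show PicF.cl (CohB1.tensorPow (CohB1.tensorPow L a) q) =
          PicF.cl (CohB1.tensorPow L (a * q)) by rw [cl_tensorPow, cl_tensorPow, cl_tensorPow, pow_mul])
      exact finrank_HH_iso k (((DCoh.tensorBi (X := X)).obj (Coh.structureModule X)).mapIso e : pw (CohB1.tensorPow L a) (Coh.structureModule X) q ≅ pw L (Coh.structureModule X) (a * q)) i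
    have ha' : ((a : ℝ)) ^ n ≠ 0 := pow_ne_zero _ (by exact_mod_cast (by omega : a ≠ 0))
    simp only [hu_eq, cohSeq_eq, e, Nat.cast_mul, mul_pow, ← div_div, ← mul_div_assoc]
    rw [mul_div_cancel_left₀ _ ha']
  rw [hhatF, hseq, limsup_const_mul hv (by positivity), hhatF, ← hu_def, limsup_eq_limsup_mul hu (by omega) hstep]

end Groth.Agent.AsympCoh
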