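import Groth.Agent.AsympCoh.Hom
import Groth.Agent.InvX.GenLocusPull
import Groth.Agent.PicClLib.Basic
import Groth.Agent.ShStabLib.DimFinite

/-!
# Growth of the cohomology of pulled back twists: the image of the support bounds the degree
-/

set_option linter.style.haveILetI false
set_option linter.unusedSectionVars false
set_option backward.isDefEq.respectTransparency false
set_option backward.isDefEq.respectTransparency.types false
set_option maxHeartbeats 1000000

universe u

open CategoryTheory CategoryTheory.Limits AlgebraicGeometry TopologicalSpace Opposite Filter Topology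
open Groth.Agent.H23.PicMul W4c5asymptcohfn

attribute [local instance] HasDerivedCategory.standard

noncomputable section

namespace Groth.Agent.AsympCoh

open Groth.Agent Groth.Agent.HilbPoly

variable {X Y : Scheme.{u}}

theorem mem_genLocus_comp {M N : X.Modules} (e : M ≅ N) (s : Coh.structureModule X ⟶ M) {x : X}
    (hs : x ∈ CohB1.genLocus M s) : x ∈ CohB1.genLocus N (s ≫ e.hom) := by
  obtain ⟨U, hU, hxU⟩ : ∃ U : X.Opens, IsIso ((Scheme.Modules.restrictFunctor U.ι).map s) ∧ x ∈ U :=
    Opens.mem_sSup.1 hs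
  refine Opens.mem_sSup.2 ⟨U, ?_, hxU⟩
  show IsIso ((Scheme.Modules.restrictFunctor U.ι).map (s ≫ e.hom))
  haveI : IsIso ((Scheme.Modules.restrictFunctor U.ι).map s) := hU
  rw [Functor.map_comp]
  infer_instance

variable (k : Type u) [Field k] [X.Over (Spec (CommRingCat.of k))] [IsProper (X ↘ Spec (CommRingCat.of k))]

/-- The cokernel of multiplication by a section lives outside its generating locus. -/
theorem IsPiece.coker' {A : X.Modules} {ξ : X} {d : ℕ} (hA : IsPiece A ξ d) {T : X.Modules}
    (hT : PicF.IsInvertible T) (s : Coh.structureModule X ⟶ T) (hs : ξ ∈ CohB1.genLocus T s) :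
    ∃ C : X.Modules, Coh.IsCoh C ∧ CohB1.support C ⊆ closure {ξ} \ (CohB1.genLocus T s : Set X) ∧
      ∀ (l : List X.Modules), AllInv l → ∀ i,
      hdimk k (twl l A) i ≤ hdimk k (twl l (CohB1.tensorMod A T)) i + hdimkPred k (twl l C) i ∧
      hdimk k (twl l (CohB1.tensorMod A T)) i ≤ hdimk k (twl l A) i + hdimk k (twl l C) i := by
  haveI : IsNoetherian X := CurveCohLib.isNoetherian_of_proper (k := k)
  haveI := hA.mono s hs
  have hP : Coh.IsCoh (CohB1.tensorMod A T) := AmpleVan.isCoh_tensor hA.coh (AmpleVan.isCoh_invertible hT)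
  have hC : Coh.IsCoh (cokernel (mulHom s A)) := QCoh.isCoh_cokernel hA.coh.1 hP _
  have hS : (ShortComplex.mk (mulHom s A) (cokernel.π _) (cokernel.condition _)).ShortExact :=
    .mk' (ShortComplex.exact_of_g_is_cokernel _ (cokernelIsCokernel _)) ‹_› inferInstance
  refine ⟨_, hC, fun x hx => ⟨(((QCoh.support_of_epi hP.1 hC.1 (cokernel.π _)).trans
    (support_tensor_subset A _)).trans hA.supp) hx, fun hxs => ?_⟩, fun l hl i => ?_⟩
  · obtain ⟨U, hU, hxU⟩ : ∃ U : X.Opens, IsIso ((Scheme.Modules.restrictFunctor U.ι).map s) ∧ x ∈ U :=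
      Opens.mem_sSup.1 hxs
    haveI : IsIso ((Scheme.Modules.restrictFunctor U.ι).map s) := hU
    haveI := isIso_restrict_mulHom s A (U := U)
    exact notMem_support_of_isZero_restrict (isZero_restrict_cokernel U _) hxU hx
  · have h := twl_ses k hS hA.coh hP hC hl i
    exact ⟨h.1, h.2.1⟩

variable [Y.Over (Spec (CommRingCat.of k))] [IsProper (Y ↘ Spec (CommRingCat.of k))]

include k in
/-- Pulled back sections generating at a point. -/
theorem exists_two_sections_pullback (f : Y ⟶ X) {H L : X.Modules} (hH : CohB1.IsAmple H)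
    (hL : PicF.IsInvertible L) (y : Y) :
    ∃ (T : Y.Modules) (_ : PicF.IsInvertible T) (s : Coh.structureModule Y ⟶ T)
      (t : Coh.structureModule Y ⟶ CohB1.tensorMod ((Scheme.Modules.pullback f).obj L) T) (V : X.Opens),
      f y ∈ V ∧ y ∈ CohB1.genLocus T s ∧ y ∈ CohB1.genLocus _ t ∧
      f ⁻¹ᵁ V ≤ CohB1.genLocus T s ∧ f ⁻¹ᵁ V ≤ CohB1.genLocus _ t := by
  obtain ⟨T, hT, s, t, hs, ht⟩ := exists_two_sections k hH hL (f y)
  obtain ⟨e⟩ := PicClLib.nonempty_pullback_structureModule f
  obtain ⟨p⟩ := H23.PicMul.pull f L T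
  have hs' : ∀ z, f z ∈ CohB1.genLocus T s →
      z ∈ CohB1.genLocus _ (e.inv ≫ (Scheme.Modules.pullback f).map s) :=
    fun z hz => (InvX.genLocus_pullback f hT s e.symm).ge hz
  have ht' : ∀ z, f z ∈ CohB1.genLocus _ t →
      z ∈ CohB1.genLocus _ ((e.inv ≫ (Scheme.Modules.pullback f).map t) ≫ p.hom) :=
    fun z hz => mem_genLocus_comp p _
      ((InvX.genLocus_pullback f (InvX.isInvertible_tensorMod hL hT) t e.symm).ge hz)
  exact ⟨(Scheme.Modules.pullback f).obj T, PicClLib.isInvertible_pullback f hT, _, _,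
    CohB1.genLocus T s ⊓ CohB1.genLocus _ t, ⟨hs, ht⟩, hs' y hs, ht' y ht,
    fun z hz => hs' z hz.1, fun z hz => ht' z hz.2⟩

/-- `h^i(F ⊗ f^*L^m) = O(m^d)` when the image of the support of `F` has dimension at most `d`. -/
theorem growth_image (f : Y ⟶ X) (hf : f ≫ (X ↘ Spec (CommRingCat.of k)) = Y ↘ Spec (CommRingCat.of k))
    {H L : X.Modules} (hH : CohB1.IsAmple H) (hL : PicF.IsInvertible L) :
    ∀ (d : ℕ) (F : Y.Modules), Coh.IsCoh F →
      topologicalKrullDim ↥(f '' CohB1.support F) < (d : WithBot ℕ∞) →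
      ∀ i, ∃ C, ∀ m : ℕ, hdimk k (twl (List.replicate m ((Scheme.Modules.pullback f).obj L)) F) i ≤ C * E d m ∧
        hdimkPred k (twl (List.replicate m ((Scheme.Modules.pullback f).obj L)) F) i ≤ C * E d m := by
  haveI : IsNoetherian Y := CurveCohLib.isNoetherian_of_proper (k := k)
  haveI : IsNoetherian X := CurveCohLib.isNoetherian_of_proper (k := k)
  haveI : IsProper f := by
    haveI : IsProper (f ≫ (X ↘ Spec (CommRingCat.of k))) := by rw [hf]; infer_instance
    exact IsProper.of_comp f (X ↘ Spec (CommRingCat.of k))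
  set L' := (Scheme.Modules.pullback f).obj L
  have hL' : PicF.IsInvertible L' := PicClLib.isInvertible_pullback f hL
  have hinv : ∀ m, AllInv (List.replicate m L') := fun m P hP => List.eq_of_mem_replicate hP ▸ hL'
  intro d
  induction d with
  | zero =>
    intro F hF hd i
    refine ⟨0, fun m => ?_⟩
    have hd' : DimLT F 0 := by
      have h0 : CohB1.support F = ∅ := by
        by_contra hne
        obtain ⟨y, hy⟩ := Set.nonempty_iff_ne_empty.2 hne
        haveI : Nonempty (IrreducibleCloseds ↥(f '' CohB1.support F)) :=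
          ⟨⟨closure {⟨f y, y, hy, rfl⟩}, isIrreducible_singleton.closure, isClosed_closure⟩⟩
        exact absurd (Order.krullDim_nonneg (α := IrreducibleCloseds ↥(f '' CohB1.support F))) (not_le_of_gt hd)
      show topologicalKrullDim ↥(CohB1.support F) < _
      rw [h0]
      haveI : IsEmpty (IrreducibleCloseds ↥(∅ : Set Y)) :=
        ⟨fun s => s.2.1.ne_empty (Set.eq_empty_of_isEmpty s.1)⟩
      rw [topologicalKrullDim, Order.krullDim_eq_bot_iff.2 ‹_›]
      exact WithBot.bot_lt_coe _
    rw [hdimk_eq_zero_of_dimLT k (isCoh_twl (hinv m) hF) (dimLT_twl hd' _) (Nat.zero_le i),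
      hdimkPred_eq_zero k (isCoh_twl (hinv m) hF) (dimLT_twl hd' _)]
    exact ⟨Nat.zero_le _, Nat.zero_le _⟩
  | succ d IH =>
    have main : ∀ (F : Y.Modules), Coh.IsCoh F →
        topologicalKrullDim ↥(f '' CohB1.support F) < ((d + 1 : ℕ) : WithBot ℕ∞) →
        ∀ i, ∃ C, ∀ m : ℕ, hdimk k (twl (List.replicate m L') F) i ≤ C * (m + 1) ^ d := by
      intro F hF hdim i
      induction QCoh.filt_of_isCoh hF with
      | @zero F₀ h =>
        refine ⟨0, fun m => le_of_eq ?_⟩
        rw [zero_mul]
        haveI := isEquivalence_twlF (hinv m)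
        haveI : Subsingleton (Coh.HH Y (twl (List.replicate m L') F₀) i) :=
          Euler.subsingleton_HH_of_isZero ((twlF (List.replicate m L')).map_isZero h) i
        exact Module.finrank_zero_of_subsingleton
      | @step F₁ M' φ _ _ hNc hMc hex ih =>
        obtain ⟨Z, j, hj, hZ, I, ι, hι, hI, hI0, ⟨e'⟩⟩ := hex
        haveI := hj; haveI := hZ; haveI := hι
        have hc := QCoh.isCoh_cokernel hNc.1 hMc φ
        have hA : Coh.IsCoh ((Coh.push j).obj I) :=
          QCoh.isCoh_of_mono (e'.inv) hc (QCoh.isQCoh_pushforward j hI)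
        set η := j (genericPoint Z) with hη
        obtain ⟨D, hD⟩ : ∃ D : ℕ, topologicalKrullDim ↥(closure ({η} : Set Y)) ≤ (D : WithBot ℕ∞) := by
          obtain ⟨D, hD⟩ := ShStabLib.exists_dim_le_proper k Y
          exact ⟨D, hD _⟩
        have hP := isPiece_push j ι hI hI0 hA hD
        have hsub : closure ({η} : Set Y) ⊆ CohB1.support M' := by
          rw [← QCoh.support_push_ideal j ι hI hI0, ← QCoh.support_iso e' hc.1]
          exact QCoh.support_of_epi hMc.1 hc.1 (cokernel.π φ)
        obtain ⟨C₁, h₁⟩ := ih hNc ((H23.TopDim.dim_le_dim_of_subset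
          (Set.image_mono (QCoh.mem_support_of_mono hNc.1 hMc.1 φ))).trans_lt hdim)
        have hfη : topologicalKrullDim ↥(closure ({f η} : Set X)) ≤ (d : WithBot ℕ∞) := by
          refine le_of_lt_succ ((H23.TopDim.dim_le_dim_of_subset ?_).trans_lt hdim)
          refine (f.isClosedMap _ (QCoh.isClosed_support_of_isFT hMc.1 hMc.2)).closure_subset_iff.2 ?_
          rintro _ rfl
          exact ⟨η, hsub (subset_closure rfl), rfl⟩
        obtain ⟨T, hT, s, t, V, hV, hs, ht, hVs, hVt⟩ := exists_two_sections_pullback k f hH hL η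
        have himg : ∀ {C : Y.Modules}, Coh.IsCoh C → ∀ {G : Y.Opens},
            CohB1.support C ⊆ closure {η} \ (G : Set Y) → f ⁻¹ᵁ V ≤ G →
            topologicalKrullDim ↥(f '' CohB1.support C) < (d : WithBot ℕ∞) := by
          intro C hC G hsC hVG
          refine dim_lt_closure hfη (f.isClosedMap _ (QCoh.isClosed_support_of_isFT hC.1 hC.2)) ?_ ?_
          · rintro _ ⟨z, hz, rfl⟩
            have h1 := image_closure_subset_closure_image f.continuous ⟨z, (hsC hz).1, rfl⟩
            rwa [Set.image_singleton] at h1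
          · rintro ⟨z, hz, hze⟩
            exact (hsC hz).2 (hVG (show f z ∈ V from hze.symm ▸ hV))
        obtain ⟨D₁, hD₁, hs₁, hq₁⟩ := hP.coker' k hT s hs
        obtain ⟨D₂, hD₂, hs₂, hq₂⟩ := hP.coker' k (InvX.isInvertible_tensorMod hL' hT) t ht
        obtain ⟨K₁, hK₁⟩ := IH D₁ hD₁ (himg hD₁ hs₁ hVs) i
        obtain ⟨K₂, hK₂⟩ := IH D₂ hD₂ (himg hD₂ hs₂ hVt) i
        let A := (Coh.push j).obj I
        set h := fun m => hdimk k (twl (List.replicate m L') A) i with hh
        have hstep : ∀ m, h (m + 1) ≤ h m + (K₁ + K₂) * E d (m + 1) := by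
          intro m
          obtain ⟨a₁, -⟩ := hq₁ (List.replicate (m + 1) L') (hinv (m + 1)) i
          obtain ⟨-, b₂⟩ := hq₂ (List.replicate m L') (hinv m) i
          obtain ⟨c⟩ := H23.PicMul.comm T L'
          have e : hdimk k (twl (List.replicate (m + 1) L') (CohB1.tensorMod ((Coh.push j).obj I) T)) i =
              hdimk k (twl (List.replicate m L') (CohB1.tensorMod ((Coh.push j).obj I) (CohB1.tensorMod L' T))) i :=
            finrank_HH_iso k ((twlF (List.replicate m L')).mapIso
              ((AmpleVan.twComp T L').app A ≪≫ ((DCoh.tensorBi (X := Y)).obj A).mapIso c)) i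
          have u₁ := (hK₁ (m + 1)).2
          have u₂ := (hK₂ m).1
          have u₃ : K₂ * E d m ≤ K₂ * E d (m + 1) := Nat.mul_le_mul_left _ (E_mono d (Nat.le_succ m))
          simp only [hh, add_mul, A]
          omega
        obtain ⟨C₂, h₂⟩ : ∃ C₂, ∀ m, h m ≤ C₂ * (m + 1) ^ d := by
          refine ⟨h 0 + (K₁ + K₂), fun m => ?_⟩
          cases d with
          | zero =>
            have : h m ≤ h 0 := by
              induction m with
              | zero => exact le_rfl
              | succ m ihm =>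
                have := hstep m
                simp only [E, mul_zero, add_zero] at this
                exact this.trans ihm
            rw [pow_zero, mul_one]
            omega
          | succ d =>
            induction m with
            | zero => simp
            | succ m ihm =>
              have h1 := hstep m
              rw [E] at h1
              have h3 : (m + 1) ^ (d + 1) ≤ (m + 1 + 1) ^ d * (m + 1) := by
                rw [pow_succ]
                exact Nat.mul_le_mul_right _ (Nat.pow_le_pow_left (by omega) d)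
              rw [pow_succ (m + 1 + 1)]
              calc h (m + 1)
                  ≤ (h 0 + (K₁ + K₂)) * ((m + 1 + 1) ^ d * (m + 1)) + (K₁ + K₂) * (m + 1 + 1) ^ d :=
                    h1.trans (Nat.add_le_add_right (ihm.trans (Nat.mul_le_mul_left _ h3)) _)
                _ ≤ (h 0 + (K₁ + K₂)) * ((m + 1 + 1) ^ d * (m + 1)) +
                      (h 0 + (K₁ + K₂)) * (m + 1 + 1) ^ d :=
                    Nat.add_le_add_left (Nat.mul_le_mul_right _ (Nat.le_add_left _ _)) _
                _ = (h 0 + (K₁ + K₂)) * ((m + 1 + 1) ^ d * (m + 1 + 1)) := by ring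
        refine ⟨C₁ + C₂, fun m => ?_⟩
        have hS' : (ShortComplex.mk φ (cokernel.π φ) (cokernel.condition φ)).ShortExact :=
          .mk' (ShortComplex.exact_of_g_is_cokernel _ (cokernelIsCokernel φ)) ‹_› inferInstance
        rw [add_mul]
        exact (twl_ses k hS' hNc hMc hc (hinv m) i).2.1.trans (add_le_add (h₁ m)
          ((finrank_HH_iso k ((twlF (List.replicate m L')).mapIso e') i).le.trans (h₂ m)))
    intro F hF hdim i
    obtain ⟨K₁, h₁⟩ := main F hF hdim i
    cases i with
    | zero => exact ⟨K₁, fun m => ⟨h₁ m, Nat.zero_le _⟩⟩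
    | succ i =>
      obtain ⟨K₂, h₂⟩ := main F hF hdim i
      exact ⟨K₁ + K₂, fun m => ⟨(h₁ m).trans (Nat.mul_le_mul_right _ (Nat.le_add_right _ _)),
        (h₂ m).trans (Nat.mul_le_mul_right _ (Nat.le_add_left _ _))⟩⟩

/-- `ĥ(f^*L) = 0` when the source has larger dimension. -/
theorem hhat_pullback_eq_zero (f : Y ⟶ X) (hf : f ≫ (X ↘ Spec (CommRingCat.of k)) = Y ↘ Spec (CommRingCat.of k))
    {H L : X.Modules} (hH : CohB1.IsAmple H) (hL : PicF.IsInvertible L) {n e : ℕ}
    (hn : topologicalKrullDim X = n) (hne : n < e) (i : ℕ) :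
    hhat k Y e i ((Scheme.Modules.pullback f).obj L) = 0 := by
  haveI : IsNoetherian Y := CurveCohLib.isNoetherian_of_proper (k := k)
  obtain ⟨C, hC⟩ := growth_image k f hf hH hL (n + 1) _ QCoh.isCoh_structureModule'
    ((H23.TopDim.dim_le_dim_of_subset (Set.subset_univ (f '' CohB1.support (Coh.structureModule Y)))).trans_lt
      (lt_succ_of_le ((topologicalKrullDim_subspace_le X Set.univ).trans hn.le))) i
  rw [hhat_eq_hhatF, hhatF]
  refine Tendsto.limsup_eq ?_
  obtain ⟨e', rfl⟩ : ∃ e', e = e' + 1 := ⟨e - 1, by omega⟩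
  have h0 := (tendsto_E (e' + 1) 1).const_mul ((C : ℝ) * (e' + 1).factorial)
  rw [mul_zero] at h0
  refine squeeze_zero_norm (fun m => ?_) h0
  have h := (hC m).1.trans (Nat.mul_le_mul_left C (show E (n + 1) m ≤ E (e' + 1) m from
    Nat.pow_le_pow_right (Nat.succ_pos m) (by omega)))
  rw [hdimk_twl_replicate] at h
  rw [cohSeq_eq, Real.norm_eq_abs, abs_of_nonneg (by positivity), one_mul, ← mul_div_assoc,
    mul_right_comm (C : ℝ)]
  refine div_le_div_of_nonneg_right (mul_le_mul_of_nonneg_right ?_ (by positivity)) (by positivity)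
  exact_mod_cast h

end Groth.Agent.AsympCoh
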