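import Mathlib

/-!
# Limit superiors of bounded sequences with asymptotically small differences
-/

set_option linter.style.header false

open Filter Topology

namespace Groth.Agent.AsympCoh

/-- A non-negative bounded sequence. -/
def Bdd01 (u : ℕ → ℝ) : Prop := (∀ m, 0 ≤ u m) ∧ ∃ B, ∀ᶠ m in atTop, u m ≤ B

theorem Bdd01.isBoundedUnder {u : ℕ → ℝ} (h : Bdd01 u) : IsBoundedUnder (· ≤ ·) atTop u :=
  isBoundedUnder_of_eventually_le h.2.choose_spec

theorem Bdd01.isCoboundedUnder {u : ℕ → ℝ} (h : Bdd01 u) : IsCoboundedUnder (· ≤ ·) atTop u :=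
  isCoboundedUnder_le_of_le atTop (x := 0) h.1

theorem Bdd01.limsup_nonneg {u : ℕ → ℝ} (h : Bdd01 u) : 0 ≤ limsup u atTop :=
  le_limsup_of_frequently_le (Frequently.of_forall h.1) h.isBoundedUnder

theorem limsup_le_of_diff {u v : ℕ → ℝ} (hu : Bdd01 u) (hv : Bdd01 v)
    (h : Tendsto (fun m => u m - v m) atTop (𝓝 0)) : limsup u atTop ≤ limsup v atTop := by
  refine le_of_forall_pos_le_add fun ε hε => limsup_le_of_le hu.isCoboundedUnder ?_
  filter_upwards [eventually_lt_of_limsup_lt (lt_add_of_pos_right _ (half_pos hε)) hv.isBoundedUnder,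
    h.eventually (eventually_lt_nhds (half_pos hε))] with m h1 h2
  linarith

theorem limsup_eq_of_diff {u v : ℕ → ℝ} (hu : Bdd01 u) (hv : Bdd01 v)
    (h : Tendsto (fun m => u m - v m) atTop (𝓝 0)) : limsup u atTop = limsup v atTop :=
  (limsup_le_of_diff hu hv h).antisymm (limsup_le_of_diff hv hu (by simpa [neg_sub] using h.neg))

theorem limsup_le_add {u v : ℕ → ℝ} {c : ℝ} (hu : Bdd01 u) (hv : Bdd01 v)
    (h : ∀ᶠ m in atTop, u m ≤ v m + c) : limsup u atTop ≤ limsup v atTop + c := by
  refine le_of_forall_pos_le_add fun ε hε => limsup_le_of_le hu.isCoboundedUnder ?_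
  filter_upwards [eventually_lt_of_limsup_lt (lt_add_of_pos_right _ hε) hv.isBoundedUnder, h] with m h1 h2
  linarith

theorem limsup_const_mul {u : ℕ → ℝ} (hu : Bdd01 u) {c : ℝ} (hc : 0 ≤ c) :
    limsup (fun m => c * u m) atTop = c * limsup u atTop := by
  rcases hc.eq_or_lt with rfl | hc'
  · simp
  exact (Monotone.map_limsup_of_continuousAt (f := fun x : ℝ => c * x) (fun a b hab => mul_le_mul_of_nonneg_left hab hc)
    u (by fun_prop) hu.isBoundedUnder hu.isCoboundedUnder).symm

/-- The limit superior is attained along the multiples of `a`. -/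
theorem limsup_eq_limsup_mul {u : ℕ → ℝ} (hu : Bdd01 u) {a : ℕ} (ha : 0 < a)
    (h : ∀ b < a, Tendsto (fun q => u (a * q + b) - u (a * q)) atTop (𝓝 0)) :
    limsup u atTop = limsup (fun q => u (a * q)) atTop := by
  have hmul : Tendsto (fun q => a * q) atTop atTop := tendsto_id.const_mul_atTop' ha
  have hv : Bdd01 fun q => u (a * q) := ⟨fun q => hu.1 _, hu.2.choose, hmul.eventually hu.2.choose_spec⟩
  refine le_antisymm (le_of_forall_pos_le_add fun ε hε => limsup_le_of_le hu.isCoboundedUnder ?_) ?_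
  · obtain ⟨q₁, hq₁⟩ := eventually_atTop.1
      (eventually_lt_of_limsup_lt (lt_add_of_pos_right _ (half_pos hε)) hv.isBoundedUnder)
    have h2 : ∀ᶠ q in atTop, ∀ b ∈ Finset.range a, u (a * q + b) - u (a * q) < ε / 2 :=
      (eventually_all_finset _).2 fun b hb =>
        (h b (Finset.mem_range.1 hb)).eventually (eventually_lt_nhds (half_pos hε))
    obtain ⟨q₂, hq₂⟩ := eventually_atTop.1 h2
    refine eventually_atTop.2 ⟨a * max q₁ q₂, fun m hm => ?_⟩
    have hq : max q₁ q₂ ≤ m / a := (Nat.le_div_iff_mul_le ha).2 (by rwa [mul_comm])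
    have e1 := hq₁ _ (le_of_max_le_left hq)
    have e2 := hq₂ _ (le_of_max_le_right hq) (m % a) (Finset.mem_range.2 (Nat.mod_lt _ ha))
    rw [Nat.div_add_mod] at e2
    linarith
  · refine le_of_forall_pos_le_add fun ε hε => limsup_le_of_le hv.isCoboundedUnder ?_
    filter_upwards [hmul.eventually (eventually_lt_of_limsup_lt (lt_add_of_pos_right _ hε) hu.isBoundedUnder)]
      with q hq
    exact hq.le

end Groth.Agent.AsympCoh
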