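import Groth.Agent.AsympCoh.Rank
import Groth.Agent.NumTau.Basic
import Groth.Agent.Nakai.KleimanDeg

/-!
# The volume is a numerical invariant
-/

set_option linter.style.haveILetI false
set_option linter.unusedSectionVars false
set_option backward.isDefEq.respectTransparency false
set_option backward.isDefEq.respectTransparency.types false
set_option maxHeartbeats 1000000

universe u

open CategoryTheory CategoryTheory.Limits AlgebraicGeometry TopologicalSpace Opposite Filter Topology
open Groth.Agent.H23.PicMul W4c5asymptcohfn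

attribute [local instance] HasDerivedCategory.standard

noncomputable section

namespace Groth.Agent.AsympCoh

open Groth.Agent Groth.Agent.HilbPoly

variable {X : Scheme.{u}} (k : Type u) [Field k] [X.Over (Spec (CommRingCat.of k))]
  [IsProper (X ↘ Spec (CommRingCat.of k))] [IsIntegral X]

/-- Tensoring with powers of a module with a section which is nonzero at the generic point increases `h⁰`. -/
theorem h0_le_tensorPow {n : ℕ} (hn : topologicalKrullDim X = n) {T : X.Modules} (hT : PicF.IsInvertible T)
    (s : Coh.structureModule X ⟶ T) (hs : genericPoint X ∈ CohB1.genLocus T s)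
    {P : X.Modules} (hP : PicF.IsInvertible P) :
    ∀ j, Big.h0 k P ≤ Big.h0 k (CohB1.tensorMod P (CohB1.tensorPow T j)) := by
  intro j
  haveI : IsNoetherian X := CurveCohLib.isNoetherian_of_proper (k := k)
  induction j with
  | zero => exact le_of_eq (Big.h0_congr k (cl_eq_iff.1 (by rw [cl_tensor, cl_tensorPow, pow_zero, mul_one])).some)
  | succ j ih =>
    haveI := (isPiece_structure k hn).mono s hs
    have hPj := InvX.isInvertible_tensorMod hP (InvX.isInvertible_tensorPow hT j)
    have h := NumTau.h0_mono_tw (k := k) (mulHom s (Coh.structureModule X))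
      (AmpleVan.isCoh_tensor QCoh.isCoh_structureModule' (AmpleVan.isCoh_invertible hT)) hPj
    refine ih.trans (le_of_eq_of_le (Big.h0_congr k (cl_eq_iff.1 ?_).some) (h.trans_eq (Big.h0_congr k (cl_eq_iff.1 ?_).some)))
    · rw [cl_tensor (Coh.structureModule X), ← H23.PicMul.one_def, one_mul]
    · rw [cl_tensor, cl_tensor (Coh.structureModule X) T, ← H23.PicMul.one_def, one_mul, cl_tensor, cl_tensor,
        cl_tensorPow, cl_tensorPow, pow_succ, mul_comm (PicF.cl T), mul_assoc]

/-- `ĥ⁰` grows under tensoring with an effective class. -/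
theorem hhat_zero_le_tensor {H : X.Modules} (hH : CohB1.IsAmple H) {n : ℕ} (hn : topologicalKrullDim X = n)
    {T : X.Modules} (hT : PicF.IsInvertible T) (s : Coh.structureModule X ⟶ T)
    (hs : genericPoint X ∈ CohB1.genLocus T s) {M M' : X.Modules} (hM : PicF.IsInvertible M)
    (hM' : PicF.IsInvertible M') (hcl : PicF.cl M' = PicF.cl M * PicF.cl T) :
    hhat k X n 0 M ≤ hhat k X n 0 M' := by
  haveI : IsNoetherian X := CurveCohLib.isNoetherian_of_proper (k := k)
  rw [hhat_eq_hhatF, hhat_eq_hhatF]
  have b := bdd_cohSeq k hH hn hM (QCoh.isCoh_structureModule' (X := X)) 0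
  have b' := bdd_cohSeq k hH hn hM' (QCoh.isCoh_structureModule' (X := X)) 0
  refine limsup_le_limsup (Eventually.of_forall fun m => ?_) b.isCoboundedUnder b'.isBoundedUnder
  rw [cohSeq_eq, cohSeq_eq, hdimk_pw_one, hdimk_pw_one]
  have h := h0_le_tensorPow k hn hT s hs (InvX.isInvertible_tensorPow hM m) m
  rw [Big.h0_congr k (cl_eq_iff.1 (show PicF.cl (CohB1.tensorMod (CohB1.tensorPow M m) (CohB1.tensorPow T m)) =
    PicF.cl (CohB1.tensorPow M' m) by rw [cl_tensor, cl_tensorPow, cl_tensorPow, cl_tensorPow, hcl, mul_pow])).some] at h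
  refine div_le_div_of_nonneg_right (mul_le_mul_of_nonneg_right ?_ (by positivity)) (by positivity)
  exact_mod_cast h

include k in
/-- An ample module has powers with sections nonzero at the generic point. -/
theorem exists_section_pow {A : X.Modules} (hA : CohB1.IsAmple A) :
    ∃ (q : ℕ) (s : Coh.structureModule X ⟶ CohB1.tensorPow A q),
      1 ≤ q ∧ genericPoint X ∈ CohB1.genLocus _ s := by
  haveI : CompactSpace X := QuasiCompact.compactSpace_of_compactSpace (X ↘ Spec (CommRingCat.of k))
  haveI : X.IsSeparated := AmpleVan.isSeparated_of_proper (X := X) (A := k)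
  obtain ⟨b, hb, hB⟩ := AmpleX.eventually_ample_tensor hA CurveDeg.isInvertible_structureModule
  obtain ⟨c⟩ := H23.PicMul.unit (CohB1.tensorPow A b)
  obtain ⟨s, hs⟩ := S1664.GenSec.exists_mem_genLocus (InvX.isInvertible_tensorPow hA.1 b)
    (AmpleX.isGloballyGenerated_of_iso c (hB b le_rfl).2) (genericPoint X)
  exact ⟨b, s, hb, hs⟩

/-- One half of the numerical invariance of `ĥ⁰`. -/
theorem hhat_zero_tensor_nt_le {H : X.Modules} (hH : CohB1.IsAmple H) {n : ℕ} (hn : topologicalKrullDim X = n)
    {L N : X.Modules} (hL : PicF.IsInvertible L) (hN : NumTau.NT k N) :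
    hhat k X n 0 (CohB1.tensorMod L N) ≤ hhat k X n 0 L := by
  classical
  have hN' := hN.1
  obtain ⟨N₁, hN₁, hinv⟩ := hN.inv
  have hS : ∀ P ∈ ({L, H} : Finset X.Modules), PicF.IsInvertible P := by
    intro P hP
    rcases Finset.mem_insert.1 hP with rfl | hP
    · exact hL
    · exact Finset.mem_singleton.1 hP ▸ hH.1
  obtain ⟨K, hK0, hK⟩ := hhat_lipschitz k hH hn hS 0
  have key : ∀ p : ℕ, 1 ≤ p →
      (p : ℝ) ^ n * hhat k X n 0 (CohB1.tensorMod L N) ≤ (p : ℝ) ^ n * hhat k X n 0 L + K * EE n (1 + p) := by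
    intro p hp
    set A := CohB1.tensorMod (CohB1.tensorPow N₁ p) H with hA'
    have hA : CohB1.IsAmple A := Nakai.isAmple_tensor_of_nef k hN₁.1 hN₁.2.1 hH p
    obtain ⟨q, s, hq, hs⟩ := exists_section_pow k hA
    have hLN := InvX.isInvertible_tensorMod hL hN'
    set B := CohB1.tensorMod H (CohB1.tensorPow L p) with hB'
    have hB : PicF.IsInvertible B := InvX.isInvertible_tensorMod hH.1 (InvX.isInvertible_tensorPow hL p)
    have h1 := hhat_zero_le_tensor k hH hn (InvX.isInvertible_tensorPow hA.1 q) s hs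
      (InvX.isInvertible_tensorPow hLN (p * q)) (InvX.isInvertible_tensorPow hB q) (by
        rw [cl_tensorPow, cl_tensorPow, cl_tensorPow, hA', hB', cl_tensor, cl_tensor, cl_tensor, cl_tensorPow,
          cl_tensorPow, pow_mul, ← mul_pow, mul_pow (PicF.cl L), ← mul_assoc, mul_assoc (PicF.cl L ^ p),
          ← mul_pow (PicF.cl N), hinv, one_pow, mul_one, mul_comm])
    rw [hhat_tensorPow k hH hn hLN (Nat.mul_pos hp hq), hhat_tensorPow k hH hn hB hq, Nat.cast_mul, mul_pow,
      mul_assoc, mul_left_comm] at h1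
    have h2 := le_of_mul_le_mul_left h1 (pow_pos (by exact_mod_cast hq) n)
    have h3 := hK [H] (List.replicate p L) (by simp) (fun Q hQ => by simp [List.eq_of_mem_replicate hQ])
      B (CohB1.tensorPow L p) hB (InvX.isInvertible_tensorPow hL p)
      (by rw [hB', List.map_append, List.prod_append, List.map_replicate, List.prod_replicate, cl_tensor, cl_tensorPow]; simp)
      (by rw [List.map_replicate, List.prod_replicate, cl_tensorPow])
    rw [hhat_tensorPow k hH hn hL hp, List.length_replicate, List.length_singleton, Nat.cast_one, mul_one] at h3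
    linarith [(abs_sub_le_iff.1 h3).1]
  refine le_of_forall_pos_le_add fun ε hε => ?_
  cases n with
  | zero => simpa [EE] using (key 1 le_rfl).trans (le_add_of_nonneg_right hε.le)
  | succ d =>
    obtain ⟨p, hp⟩ := exists_nat_gt (max 1 (K * 4 ^ d / ε))
    have hp1 : (1 : ℝ) < p := (le_max_left _ _).trans_lt hp
    have hp' : 1 ≤ p := by exact_mod_cast hp1.le
    have h := key p hp'
    have hEE : (EE (d + 1) (1 + p) : ℝ) ≤ 4 ^ d * (p : ℝ) ^ d := by
      rw [← mul_pow]
      simp only [EE]
      push_cast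
      exact pow_le_pow_left₀ (by positivity) (by linarith) d
    have hKp : K * 4 ^ d ≤ ε * p := by
      have := ((div_le_iff₀ hε).1 ((le_max_right _ _).trans hp.le))
      linarith
    refine le_of_mul_le_mul_left ?_ (pow_pos (by linarith : (0 : ℝ) < p) (d + 1))
    calc (p : ℝ) ^ (d + 1) * hhat k X (d + 1) 0 (CohB1.tensorMod L N)
        ≤ (p : ℝ) ^ (d + 1) * hhat k X (d + 1) 0 L + K * (4 ^ d * (p : ℝ) ^ d) :=
          h.trans (by gcongr)
      _ ≤ (p : ℝ) ^ (d + 1) * hhat k X (d + 1) 0 L + ε * p * (p : ℝ) ^ d := by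
          rw [← mul_assoc K]
          gcongr
      _ = _ := by ring

/-- Numerical invariance of `ĥ⁰`. -/
theorem hhat_zero_tensor_numEquivZero {H : X.Modules} (hH : CohB1.IsAmple H) {n : ℕ} (hn : topologicalKrullDim X = n)
    {L N : X.Modules} (hL : PicF.IsInvertible L) (hN : PicF.IsInvertible N) (h : Pic13.IsNumEquivZero k X N) :
    hhat k X n 0 (CohB1.tensorMod L N) = hhat k X n 0 L := by
  have hnt := NumTau.nt_of_numEquivZero hN h
  refine (hhat_zero_tensor_nt_le k hH hn hL hnt).antisymm ?_
  obtain ⟨N₁, hN₁, hinv⟩ := hnt.inv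
  have h2 := hhat_zero_tensor_nt_le k hH hn (InvX.isInvertible_tensorMod hL hN) hN₁
  have e : hhat k X n 0 (CohB1.tensorMod (CohB1.tensorMod L N) N₁) = hhat k X n 0 L := by
    rw [hhat, hhat]
    refine congrArg (fun u => limsup u atTop) (funext fun m => ?_)
    rw [finrank_HH_iso k (cl_eq_iff.1 (show PicF.cl (CohB1.tensorPow (CohB1.tensorMod (CohB1.tensorMod L N) N₁) m) =
      PicF.cl (CohB1.tensorPow L m) by rw [cl_tensorPow, cl_tensorPow, cl_tensor, cl_tensor, mul_assoc, hinv, mul_one])).some 0]
  rwa [e] at h2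

/-- The normalised `ℝ≥0∞`-valued `limsup` of `h⁰` in terms of `ĥ⁰`. -/
theorem limsup_h0_eq_ofReal {H : X.Modules} (hH : CohB1.IsAmple H) {n : ℕ} (hn : topologicalKrullDim X = n)
    {L : X.Modules} (hL : PicF.IsInvertible L) :
    limsup (fun m : ℕ => (Module.finrank k (Coh.HH X (CohB1.tensorPow L m) 0) : ENNReal) / (m : ENNReal) ^ n) atTop =
      ENNReal.ofReal (hhat k X n 0 L / n.factorial) := by
  haveI : IsNoetherian X := CurveCohLib.isNoetherian_of_proper (k := k)
  rw [hhat_eq_hhatF, hhatF]
  have b := bdd_cohSeq k hH hn hL (QCoh.isCoh_structureModule' (X := X)) 0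
  rw [Monotone.map_limsup_of_continuousAt (f := fun r => ENNReal.ofReal (r / n.factorial))
    (fun x y hxy => ENNReal.ofReal_le_ofReal (div_le_div_of_nonneg_right hxy (Nat.cast_nonneg _))) _
    ((ENNReal.continuous_ofReal.comp (continuous_id.div_const _)).continuousAt) b.isBoundedUnder b.isCoboundedUnder]
  refine limsup_congr ((eventually_ge_atTop 1).mono fun m hm => ?_)
  simp only [Function.comp_apply]
  rw [cohSeq_eq, hdimk_pw_one, div_right_comm, mul_div_assoc, div_self (by positivity), mul_one,
    ENNReal.ofReal_div_of_pos (by positivity), ENNReal.ofReal_natCast, ENNReal.ofReal_pow (Nat.cast_nonneg _),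
    ENNReal.ofReal_natCast]

end Groth.Agent.AsympCoh
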