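import Groth.Agent.AsympCoh.Image
import Groth.Agent.Big.Hodge
import Groth.Agent.PicPnLib.Main
import Groth.Agent.PicPnLib.Uniq
import Groth.Agent.S10829
import Groth.Agent.H23.PnChart
import Groth.Agent.PnCoh.Chow.Proper
import Groth.Agent.InvX.GenLocusPull
import Groth.Agent.PicGlue.AffineCompl
import Groth.Agent.S11489
import Groth.Agent.TauNum.Bounded

/-!
# Morphisms from `P^n` to `P^m` for `m < n`
-/

set_option linter.style.haveILetI false
set_option linter.unusedSectionVars false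
set_option backward.isDefEq.respectTransparency false
set_option backward.isDefEq.respectTransparency.types false
set_option maxHeartbeats 1000000

universe u

open CategoryTheory CategoryTheory.Limits AlgebraicGeometry TopologicalSpace Opposite Filter Topology
open Groth.Agent.H23.PicMul

noncomputable section

namespace Groth.Agent.AsympCoh

open Groth.Agent Groth.Agent.HilbPoly

variable {k : Type u} [Field k] {n m : ℕ}

/-- `O(e)` with `e > 0` is not a pullback from `P^m`, `m < n`. -/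
theorem not_pullback_pos [X : (CohB1.ProjSpace n k).Over (Spec (CommRingCat.of k))]
    [Y : (CohB1.ProjSpace m k).Over (Spec (CommRingCat.of k))]
    [IsProper (CohB1.ProjSpace n k ↘ Spec (CommRingCat.of k))]
    [IsProper (CohB1.ProjSpace m k ↘ Spec (CommRingCat.of k))]
    (hmn : m < n) (f : CohB1.ProjSpace n k ⟶ CohB1.ProjSpace m k)
    (hf : f ≫ (CohB1.ProjSpace m k ↘ Spec (CommRingCat.of k)) = CohB1.ProjSpace n k ↘ Spec (CommRingCat.of k))
    {M : (CohB1.ProjSpace m k).Modules} (hM : PicF.IsInvertible M) {A : (CohB1.ProjSpace n k).Modules}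
    (hA : CohB1.IsAmple A) (e : (Scheme.Modules.pullback f).obj M ≅ A) : False := by
  haveI : IsNoetherian (CohB1.ProjSpace n k) := CurveCohLib.isNoetherian_of_proper (k := k)
  haveI := H23.PnChart.isIntegral_projSpace n k
  have hO : Coh.IsCoh (Coh.structureModule (CohB1.ProjSpace n k)) := QCoh.isCoh_structureModule'
  obtain ⟨C, hC⟩ := growth_image k f hf (Big.isAmple_hyperplane m k) hM (m + 1) _ hO
    ((H23.TopDim.dim_le_dim_of_subset (Set.subset_univ (f '' CohB1.support (Coh.structureModule (CohB1.ProjSpace n k))))).trans_lt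
      (lt_succ_of_le ((topologicalKrullDim_subspace_le (CohB1.ProjSpace m k) Set.univ).trans (S10829.result k m).le))) 0
  have hdim : topologicalKrullDim ↥(CohB1.ProjSpace n k) = (n : WithBot ℕ∞) := S10829.result k n
  obtain ⟨q, hq, hqn, n₀, h₀⟩ := Big.exists_poly_h0 k (C := ⊤) hA hO (fun x _ => trivial)
    ((Topology.IsInducing.subtypeVal.topologicalKrullDim_le).trans hdim.le)
  have hpos := Big.coeff_pos_invertible k hdim hA CurveDeg.isInvertible_structureModule hqn
  have hdeg : q.degree = n := Polynomial.degree_eq_of_le_of_coeff_ne_zero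
    (Polynomial.natDegree_le_iff_degree_le.1 hq) hpos.ne'
  have hlim : Tendsto (fun x : ℕ => q.eval (x : ℚ) / ((x : ℚ) ^ n)) atTop (𝓝 q.leadingCoeff) := by
    have h := Polynomial.div_tendsto_atTop_leadingCoeff_div_of_degree_eq q (Polynomial.X ^ n)
      (by rw [hdeg, Polynomial.degree_X_pow])
    simp only [Polynomial.leadingCoeff_X_pow, div_one, Polynomial.eval_pow, Polynomial.eval_X] at h
    exact h.comp tendsto_natCast_atTop_atTop
  have hzero : Tendsto (fun x : ℕ => ((C * 2 ^ m : ℕ) : ℚ) / (x : ℚ)) atTop (𝓝 0) :=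
    tendsto_const_nhds.div_atTop tendsto_natCast_atTop_atTop
  have hle : q.leadingCoeff ≤ 0 := by
    refine le_of_tendsto_of_tendsto hlim hzero ?_
    filter_upwards [eventually_ge_atTop (max n₀ 1)] with x hx
    have hx1 : (1 : ℚ) ≤ (x : ℚ) := by exact_mod_cast (le_max_right _ _).trans hx
    have h1 : Big.h0 k (CohB1.tensorMod (Coh.structureModule _) (CohB1.tensorPow A x)) ≤ C * (x + 1) ^ m := by
      have h := (hC x).1
      rw [hdimk_twl_replicate] at h
      refine le_of_eq_of_le (Big.h0_congr k (cl_eq_iff.1 ?_).some) h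
      rw [cl_tensor, cl_tensor, cl_tensorPow, cl_tensorPow, cl_eq_iff.2 ⟨e⟩]
    have h2 : q.eval (x : ℚ) ≤ ((C * 2 ^ m : ℕ) : ℚ) * (x : ℚ) ^ m := by
      rw [← h₀ x ((le_max_left _ _).trans hx)]
      refine (Nat.cast_le.2 h1).trans ?_
      push_cast
      rw [mul_assoc, ← mul_pow]
      gcongr
      linarith
    rw [div_le_div_iff₀ (pow_pos (by linarith) n) (by linarith)]
    calc q.eval (x : ℚ) * x ≤ ((C * 2 ^ m : ℕ) : ℚ) * (x : ℚ) ^ m * x := by gcongr
      _ = ((C * 2 ^ m : ℕ) : ℚ) * (x : ℚ) ^ (m + 1) := by ring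
      _ ≤ _ := by gcongr; omega
  rw [Polynomial.leadingCoeff, Polynomial.natDegree_eq_of_degree_eq_some hdeg] at hle
  exact absurd hle hpos.not_ge

/-- A morphism `P^n → P^m`, `m < n`, is constant. -/
theorem exists_factor_point (hmn : m < n) (f : CohB1.ProjSpace n k ⟶ CohB1.ProjSpace m k)
    (hf : f ≫ CohB1.ProjSpace.toSpec m k = CohB1.ProjSpace.toSpec n k) :
    ∃ q : Spec (CommRingCat.of k) ⟶ CohB1.ProjSpace m k, f = CohB1.ProjSpace.toSpec n k ≫ q := by
  letI : (CohB1.ProjSpace n k).Over (Spec (CommRingCat.of k)) := ⟨CohB1.ProjSpace.toSpec n k⟩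
  letI : (CohB1.ProjSpace m k).Over (Spec (CommRingCat.of k)) := ⟨CohB1.ProjSpace.toSpec m k⟩
  haveI : IsProper (CohB1.ProjSpace n k ↘ Spec (CommRingCat.of k)) := PnCoh.Chow.isProper_toSpec n k
  haveI : IsProper (CohB1.ProjSpace m k ↘ Spec (CommRingCat.of k)) := PnCoh.Chow.isProper_toSpec m k
  haveI := H23.PnChart.isIntegral_projSpace n k
  obtain ⟨e, ⟨τ⟩⟩ := PicPnLib.exists_twist
    (L := (Scheme.Modules.pullback f).obj (Twist.twistProjSpace m k 1))
    (PicClLib.isInvertible_pullback f (TauNum.isInvertible_twist 1))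
  have hcl : PicF.cl ((Scheme.Modules.pullback f).obj (Twist.twistProjSpace m k 1)) =
      PicF.cl (Twist.twistProjSpace n k e) := cl_eq_iff.2 ⟨τ⟩
  have hamp : ∀ a : ℕ, 1 ≤ a → CohB1.IsAmple (Twist.twistProjSpace n k (a : ℤ)) := fun a ha =>
    AmpleX.isAmple_of_iso (cl_eq_iff.1 (by rw [TauNum.cl_twist_natCast, cl_tensorPow])).some
      (AmpleX.isAmple_tensorPow (Big.isAmple_hyperplane n k) ha)
  have he : e = 0 := by
    rcases lt_trichotomy e 0 with hneg | h0 | hpos
    · exfalso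
      obtain ⟨a, rfl⟩ : ∃ a : ℕ, e = -(a : ℤ) := ⟨(-e).toNat, by omega⟩
      refine not_pullback_pos hmn f hf (TauNum.isInvertible_twist (n := m) (k := k) (-1))
        (hamp a (by omega)) (cl_eq_iff.1 ?_).some
      have h1 : PicF.pullCl f (PicF.cl (Twist.twistProjSpace m k (-1))) *
          PicF.pullCl f (PicF.cl (Twist.twistProjSpace m k 1)) = 1 := by
        rw [← pullCl_mul, TauNum.cl_twist_add, show (-1 : ℤ) + 1 = ((0 : ℕ) : ℤ) by norm_num,
          TauNum.cl_twist_natCast, pow_zero, pullCl_one]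
      rw [show PicF.pullCl f (PicF.cl (Twist.twistProjSpace m k 1)) = PicF.cl (Twist.twistProjSpace n k (-(a : ℤ))) from hcl] at h1
      have h2 : PicF.cl (Twist.twistProjSpace n k (-(a : ℤ))) * PicF.cl (Twist.twistProjSpace n k (a : ℤ)) = 1 := by
        rw [TauNum.cl_twist_add, neg_add_cancel, show (0 : ℤ) = ((0 : ℕ) : ℤ) from rfl, TauNum.cl_twist_natCast, pow_zero]
      show PicF.pullCl f (PicF.cl (Twist.twistProjSpace m k (-1))) = _
      rw [← mul_one (PicF.pullCl f _), ← h2, ← mul_assoc, h1, one_mul]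
    · exact h0
    · exfalso
      obtain ⟨a, rfl⟩ : ∃ a : ℕ, e = (a : ℤ) := ⟨e.toNat, by omega⟩
      exact not_pullback_pos hmn f hf (TauNum.isInvertible_twist (n := m) (k := k) 1)
        (hamp a (by omega)) τ
  subst he
  obtain ⟨ε⟩ := cl_eq_iff.1 (show PicF.cl (Coh.structureModule (CohB1.ProjSpace n k)) =
      PicF.cl ((Scheme.Modules.pullback f).obj (Twist.twistProjSpace m k 1)) by
    rw [hcl, show (0 : ℤ) = ((0 : ℕ) : ℤ) from rfl, TauNum.cl_twist_natCast, pow_zero, H23.PicMul.one_def])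
  let X₀ := CohB1.ProjSpace n k
  have hb : Function.Bijective (CohB1.ProjSpace.toSpec n k).appTop.hom :=
    Groth.Agent.PnCoh.bijective_toSpecR_appTop (ι := Fin (n + 1)) (R := k)
  haveI : IsIso (CohB1.ProjSpace.toSpec n k).appTop := (ConcreteCategory.isIso_iff_bijective _).2 hb
  have hfield : IsField Γ(CohB1.ProjSpace n k, ⊤) := by
    let g : k →+* Γ(CohB1.ProjSpace n k, ⊤) :=
      (CohB1.ProjSpace.toSpec n k).appTop.hom.comp (Scheme.ΓSpecIso (CommRingCat.of k)).inv.hom
    have hg : Function.Bijective g :=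
      hb.comp (ConcreteCategory.bijective_of_isIso (Scheme.ΓSpecIso (CommRingCat.of k)).inv)
    exact MulEquiv.isField (Field.toIsField k) (RingEquiv.ofBijective g hg).symm.toMulEquiv
  obtain ⟨x₀⟩ : Nonempty (CohB1.ProjSpace n k) := inferInstance
  obtain ⟨j, hj⟩ := Opens.mem_iSup.1 ((Proj.iSup_basicOpen_eq_top (CohB1.polyGrading m k)
      (fun j : Fin (m + 1) => MvPolynomial.X j) (SegreX.irrelevant_le_span m k)).ge
      (trivial : f x₀ ∈ (⊤ : (CohB1.ProjSpace m k).Opens)))
  let D : (CohB1.ProjSpace m k).Opens := Proj.basicOpen (CohB1.polyGrading m k) (MvPolynomial.X j)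
  let s := ProjUP.pullSec f (Twist.twistProjSpace m k 1) (ProjUP.coord m k j)
  have hpre : f ⁻¹ᵁ D = H23.TrivBasic.locus s := AmpleEmbed.preimage_chart f (Iso.refl _) j rfl
  let e₁ : Γ((Scheme.Modules.pullback f).obj (Twist.twistProjSpace m k 1), (⊤ : (CohB1.ProjSpace n k).Opens)) :=
    ε.hom.app ⊤ (show Γ(Coh.structureModule (CohB1.ProjSpace n k), ⊤) from (1 : Γ(CohB1.ProjSpace n k, ⊤)))
  have hfr : InvX.IsFrame e₁ := (InvX.isFrame_one ⊤).map_iso ε
  obtain ⟨g, hg⟩ := hfr.exists_coord le_rfl s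
  rw [AModX.res_self] at hg
  have hlocus : AmpleX.locus s = f ⁻¹ᵁ D := by
    rw [hpre]
    show _ = CohB1.genLocus _ (InvX.ofSect s)
    rw [AmpleX.genLocus_eq_locus, InvX.one_ofSect]
  have hg0 : g ≠ 0 := fun h0 => by
    have h1 : x₀ ∈ AmpleX.locus s := hlocus.ge hj
    rw [hg, h0, zero_smul, PicGlue.locus_zero (PicClLib.isInvertible_pullback f (TauNum.isInvertible_twist 1))] at h1
    exact h1
  obtain ⟨g', hg'⟩ := hfield.mul_inv_cancel hg0
  have htop : f ⁻¹ᵁ D = ⊤ := by
    rw [← hlocus]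
    refine top_le_iff.1 ?_
    have h2 : InvX.IsFrame s := by rw [hg]; exact hfr.isUnit_smul (IsUnit.of_mul_eq_one _ hg')
    intro y _
    rw [← InvX.one_ofSect s, ← AmpleX.genLocus_eq_locus]
    exact InvX.le_genLocus _ (U := ⊤) (by rw [InvX.one_ofSect, AModX.res_self]; exact h2) trivial
  haveI : IsAffine (D : Scheme.{u}) := Proj.isAffineOpen_basicOpen _ _ (ProjPt.X_mem j) one_pos
  let f' : CohB1.ProjSpace n k ⟶ (D : Scheme.{u}) := IsOpenImmersion.lift D.ι f (by
    rintro _ ⟨y, rfl⟩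
    rw [Scheme.Opens.range_ι]
    exact (htop.ge (trivial : y ∈ (⊤ : (CohB1.ProjSpace n k).Opens)) :))
  have hf' : f' ≫ D.ι = f := IsOpenImmersion.lift_fac _ _ _
  refine ⟨(Spec (CommRingCat.of k)).isoSpec.hom ≫ Spec.map (f'.appTop ≫ inv (CohB1.ProjSpace.toSpec n k).appTop) ≫
    (D : Scheme.{u}).isoSpec.inv ≫ D.ι, ?_⟩
  rw [← hf', Scheme.isoSpec, asIso_hom, ← Category.assoc, Scheme.toSpecΓ_naturality, Category.assoc, ← Spec.map_comp_assoc,
    Category.assoc, IsIso.inv_hom_id, Category.comp_id, ← Scheme.toSpecΓ_naturality_assoc, ← Category.assoc f']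
  simp [Scheme.isoSpec]

end Groth.Agent.AsympCoh
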