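import Groth.Agent.AsympCoh.Image
import Groth.Agent.AsympCoh.Close
import Groth.Agent.Nakai.ProjEuler
import Groth.Agent.Nakai.Birat
import Groth.Agent.CycLib.Finite
import Groth.Agent.VarDim.Top
import Groth.Agent.Nakai.Kleiman
import Groth.Agent.ExtShX.DualTensor

/-!
# Asymptotic cohomology under generically finite pullback
-/

set_option linter.style.haveILetI false
set_option linter.unusedSectionVars false
set_option backward.isDefEq.respectTransparency false
set_option backward.isDefEq.respectTransparency.types false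
set_option maxHeartbeats 1000000

universe u

open CategoryTheory CategoryTheory.Limits AlgebraicGeometry TopologicalSpace Opposite Filter
open Groth.Agent.H23.PicMul W4c5asymptcohfn

noncomputable section

namespace Groth.Agent.AsympCoh

open Groth.Agent Groth.Agent.HilbPoly

variable {X Y : Scheme.{u}}

variable (k : Type u) [Field k] [X.Over (Spec (CommRingCat.of k))] [Y.Over (Spec (CommRingCat.of k))]
  [IsProper (X ↘ Spec (CommRingCat.of k))] [IsProper (Y ↘ Spec (CommRingCat.of k))]

include k in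
/-- Projection formula for cohomology after a large ample twist. -/
theorem exists_finrank_push (f : Y ⟶ X) (hf : f ≫ (X ↘ Spec (CommRingCat.of k)) = Y ↘ Spec (CommRingCat.of k))
    {A : Y.Modules} (hA : CohB1.IsAmple A) {F : Y.Modules} (hF : Coh.IsCoh F) {r : ℕ} {L : Fin r → X.Modules}
    (hL : ∀ j, PicF.IsInvertible (L j)) :
    ∃ m₀, ∀ m, m₀ ≤ m → Coh.IsCoh ((Coh.push f).obj (CohB1.tensorMod F (CohB1.tensorPow A m))) ∧
      ∀ (N : X.Modules) (n : Fin r → ℕ), PicF.IsInvertible N → PicF.cl N = ∏ j, PicF.cl (L j) ^ n j →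
        ∀ i, Module.finrank k (Coh.HH Y
            (CohB1.tensorMod (CohB1.tensorMod F (CohB1.tensorPow A m)) ((Scheme.Modules.pullback f).obj N)) i) =
          Module.finrank k
            (Coh.HH X (CohB1.tensorMod ((Coh.push f).obj (CohB1.tensorMod F (CohB1.tensorPow A m))) N) i) := by
  classical
  haveI := CurveCohLib.isNoetherian_of_proper (k := k) (X := X)
  haveI := CurveCohLib.isNoetherian_of_proper (k := k) (X := Y)
  haveI : IsProper f := by
    haveI : IsProper (f ≫ (X ↘ Spec (CommRingCat.of k))) := by rw [hf]; infer_instance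
    exact IsProper.of_comp f (X ↘ Spec (CommRingCat.of k))
  choose V hV hxV hVL using Nakai.exists_affine_triv hL
  obtain ⟨t, ht⟩ := isCompact_univ.elim_finite_subcover (fun x : X => (V x : Set X)) (fun x => (V x).2)
    fun x _ => Set.mem_iUnion.2 ⟨x, hxV x⟩
  have key : ∀ x : X, ∃ N₀, ∀ n, N₀ ≤ n → ∀ q, Subsingleton (Coh.HH ((f ⁻¹ᵁ V x : Y.Opens) : Scheme.{u})
      ((CohB1.tensorMod F (CohB1.tensorPow A n)).restrict (f ⁻¹ᵁ V x).ι) (q + 1)) := fun x => by
    let W : Y.Opens := f ⁻¹ᵁ V x
    letI : (W : Scheme.{u}).Over (Spec (CommRingCat.of Γ(X, V x))) := ⟨QCoh.overSpec f (hV x)⟩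
    haveI : IsProper ((W : Scheme.{u}) ↘ Spec (CommRingCat.of Γ(X, V x))) := by
      show IsProper ((f ∣_ V x) ≫ (hV x).isoSpec.hom)
      infer_instance
    haveI : IsNoetherianRing Γ(X, V x) := IsLocallyNoetherian.component_noetherian ⟨V x, hV x⟩
    obtain ⟨d, hd⟩ := AmpleVan.exists_vanishing (A := Γ(X, V x)) (Nakai.isAmple_restrict_preimage f hA (hV x))
      (QCoh.isCoh_restrict_open (U := W) hF)
    refine ⟨d, fun n hn q => ?_⟩
    obtain ⟨e⟩ := cl_eq_iff.1 (S4474.cl_restrict_twist W F A n)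
    exact S0055.HH_iso e _ (hd n hn q)
  choose N₀ hN₀ using key
  refine ⟨t.sup N₀, fun m hm => ?_⟩
  let G := CohB1.tensorMod F (CohB1.tensorPow A m)
  have hG : Coh.IsCoh G := AmpleVan.isCoh_tensor hF (AmpleVan.isCoh_invertible (InvX.isInvertible_tensorPow hA.1 m))
  refine ⟨ExistEasy.isCoh_pushforward_proper f hG, fun N n hN hNn i => ?_⟩
  have hN' := PicClLib.isInvertible_pullback f hN
  let H := CohB1.tensorMod G ((Scheme.Modules.pullback f).obj N)
  have hH : Coh.IsQCoh H := Nakai.isQCoh_twist (M := G) hG.1 hN'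
  have hzero : ∀ i : ℕ, IsZero ((Coh.RpushAb f (i + 1)).obj (Coh.toAb H)) := fun i => by
    refine CohBasic.isZero_RpushAb_of_HH f hH i (fun x : t => V x.1) (fun x => hV x.1) (fun y => ?_) fun x => ?_
    · obtain ⟨x, hx, hy⟩ := Set.mem_iUnion₂.1 (ht (Set.mem_univ y))
      exact ⟨⟨x, hx⟩, hy⟩
    · obtain ⟨e⟩ : Nonempty (G.restrict (f ⁻¹ᵁ V x.1).ι ≅ H.restrict (f ⁻¹ᵁ V x.1).ι) := cl_eq_iff.1 (by
        rw [S4474.cl_restrict, S4474.cl_restrict, cl_tensor (CohB1.tensorMod F (CohB1.tensorPow A m)), pullCl_mul,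
          show PicF.cl ((Scheme.Modules.pullback f).obj N) = PicF.pullCl f (PicF.cl N) from rfl,
          Nakai.pullCl_comp', ← morphismRestrict_ι, ← Nakai.pullCl_comp', hNn,
          Nakai.pullCl_pullback_tensorPows_eq_one _ (hVL x.1), pullCl_one, mul_one])
      exact S0055.HH_iso e _ (hN₀ x.1 m ((Finset.le_sup x.2).trans hm) i)
  have hcoh : ∀ i, Module.finrank k (Coh.HH Y H i) = Module.finrank k (Coh.HH X ((Coh.push f).obj H) i) := fun i =>
    (PnCoh.nonempty_linearEquiv_of_natPushEquiv k f hf H i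
      (Nakai.natPushEquiv_of_Rpush_isZero f.base (QCoh.abSheaf H) hzero i)).some.finrank_eq
  obtain ⟨e⟩ := AmpleDev.push_tensor_iso f hN G
  exact (hcoh i).trans (finrank_HH_iso k e i).symm

include k in
open W4c5asymptcohfn in
/-- `ĥ(f^*L) = deg f · ĥ(L)` for a generically finite `f`. -/
theorem hhat_pullback_eq_degree_mul [IsIntegral X] [IsIntegral Y] (f : Y ⟶ X)
    (hf : f ≫ (X ↘ Spec (CommRingCat.of k)) = Y ↘ Spec (CommRingCat.of k))
    {H L : X.Modules} {A : Y.Modules} (hH : CohB1.IsAmple H) (hA : CohB1.IsAmple A) (hL : PicF.IsInvertible L)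
    {n : ℕ} (hn : topologicalKrullDim X = n) (hdom : f (genericPoint Y) = genericPoint X) {d : ℕ}
    (hd : f.residueDegree (genericPoint Y) = d) (hd0 : 1 ≤ d) (i : ℕ) :
    hhat k Y n i ((Scheme.Modules.pullback f).obj L) = (d : ℝ) * hhat k X n i L := by
  haveI : IsNoetherian Y := CurveCohLib.isNoetherian_of_proper (k := k)
  haveI : IsNoetherian X := CurveCohLib.isNoetherian_of_proper (k := k)
  haveI : CompactSpace Y := QuasiCompact.compactSpace_of_compactSpace (Y ↘ Spec (CommRingCat.of k))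
  haveI : Y.IsSeparated := AmpleVan.isSeparated_of_proper (X := Y) (A := k)
  haveI : IsProper f := by
    haveI : IsProper (f ≫ (X ↘ Spec (CommRingCat.of k))) := by rw [hf]; infer_instance
    exact IsProper.of_comp f (X ↘ Spec (CommRingCat.of k))
  have hfd : VarDim.fdeg f (genericPoint Y) = 0 := by
    letI := (f.residueFieldMap (genericPoint Y)).hom.toAlgebra
    haveI : Module.Finite (X.residueField (f (genericPoint Y))) (Y.residueField (genericPoint Y)) :=
      Module.finite_of_finrank_pos (show 0 < f.residueDegree (genericPoint Y) by omega)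
    show Cardinal.toNat (Algebra.trdeg (X.residueField (f (genericPoint Y))) (Y.residueField (genericPoint Y))) = 0
    rw [trdeg_eq_zero, map_zero]
  have hnY : topologicalKrullDim Y = n := by
    rw [VarDim.topologicalKrullDim_eq_deg_genericPoint (Y ↘ Spec (CommRingCat.of k)), VarDim.deg_eq_add f (X ↘ Spec (CommRingCat.of k)) hf,
      hfd, add_zero, hdom, ← VarDim.topologicalKrullDim_eq_deg_genericPoint (X ↘ Spec (CommRingCat.of k))]
    exact hn
  obtain ⟨m₀, hm₀⟩ := exists_finrank_push k f hf hA (F := Coh.structureModule Y) QCoh.isCoh_structureModule'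
    (L := fun _ : Fin 1 => L) fun _ => hL
  obtain ⟨b, hb, hB⟩ := AmpleX.eventually_ample_tensor hA CurveDeg.isInvertible_structureModule
  set m := max m₀ b
  obtain ⟨s₁, hs₁⟩ := S1664.GenSec.exists_mem_genLocus
    (InvX.isInvertible_tensorMod (InvX.isInvertible_tensorPow hA.1 m) CurveDeg.isInvertible_structureModule)
    (hB m (le_max_right _ _)).2 (genericPoint Y)
  obtain ⟨c⟩ := H23.PicMul.comm (CohB1.tensorPow A m) (Coh.structureModule Y)
  set G := CohB1.tensorMod (Coh.structureModule Y) (CohB1.tensorPow A m) with hGdef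
  have hG : PicF.IsInvertible G :=
    InvX.isInvertible_tensorMod CurveDeg.isInvertible_structureModule (InvX.isInvertible_tensorPow hA.1 m)
  have hs : genericPoint Y ∈ CohB1.genLocus G (s₁ ≫ c.hom) := mem_genLocus_comp c s₁ hs₁
  obtain ⟨U, hU, hηU⟩ : ∃ U : Y.Opens, IsIso ((Scheme.Modules.restrictFunctor U.ι).map (s₁ ≫ c.hom)) ∧
      genericPoint Y ∈ U := Opens.mem_sSup.1 hs
  obtain ⟨hGpush, hfr⟩ := hm₀ m (le_max_left _ _)
  have hlen := Nakai.len_push_invertible f hdom
    (fun y hy => Nakai.eq_generic_of_map_eq f f.isClosedMap hnY hn hy) hG (s₁ ≫ c.hom) (Nakai.ne_zero_of_mem_genLocus hs)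
  rw [hhat_eq_hhatF, hhatF_eq_of_isoOn k hA hnY (PicClLib.isInvertible_pullback f hL)
    QCoh.isCoh_structureModule' (AmpleVan.isCoh_invertible hG) (s₁ ≫ c.hom) ⟨_, hηU⟩ (fun x hx => @ExtShX.isIso_stalk_of_restrict _ U _ _ _ hU x hx) i,
    ← hhatF_eq_rank_mul k hH hn hL hGpush (r := d) ?_ i]
  · refine congrArg (fun u => limsup u atTop) (funext fun N => ?_)
    rw [cohSeq_eq, cohSeq_eq]
    refine congrArg (fun u : ℕ => (u : ℝ) * n.factorial / (N : ℝ) ^ n) ?_
    refine Eq.trans ?_ (hfr (CohB1.tensorPow L N) (fun _ => N) (InvX.isInvertible_tensorPow hL N) ?_ i)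
    · obtain ⟨e⟩ : Nonempty (CohB1.tensorPow ((Scheme.Modules.pullback f).obj L) N ≅
          (Scheme.Modules.pullback f).obj (CohB1.tensorPow L N)) := cl_eq_iff.1 (by
        rw [cl_tensorPow, show PicF.cl ((Scheme.Modules.pullback f).obj (CohB1.tensorPow L N)) =
          PicF.pullCl f (PicF.cl (CohB1.tensorPow L N)) from rfl, cl_tensorPow, pullCl_pow]
        rfl)
      exact finrank_HH_iso k (((DCoh.tensorBi (X := Y)).obj G).mapIso e) i
    · rw [Finset.prod_const, Finset.card_univ, Fintype.card_fin, pow_one, cl_tensorPow]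
  · letI := (CurveBundle.isField_stalk_generic (X := X)).toField
    haveI := QCoh.finite_stalk_of_isFT hGpush.1 hGpush.2 (genericPoint X)
    have h1 := H23.FiniteFibreSum.length_eq_finrank (X.presheaf.stalk (genericPoint X))
      (((Coh.push f).obj G).presheaf.stalk (genericPoint X))
    rw [Snapper.len, h1, hd, ENat.toNat_coe] at hlen
    exact_mod_cast hlen

include k in
/-- Cohomology of pullbacks along a generically finite morphism, up to lower order terms. -/
theorem exists_close_pullback [IsIntegral X] [IsIntegral Y] (f : Y ⟶ X)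
    (hf : f ≫ (X ↘ Spec (CommRingCat.of k)) = Y ↘ Spec (CommRingCat.of k))
    {H L : X.Modules} {A : Y.Modules} (hH : CohB1.IsAmple H) (hA : CohB1.IsAmple A) (hL : PicF.IsInvertible L)
    {n : ℕ} (hn : topologicalKrullDim X = n) (hdom : f (genericPoint Y) = genericPoint X) {d : ℕ}
    (hd : f.residueDegree (genericPoint Y) = d) (hd0 : 1 ≤ d) (i : ℕ) :
    ∃ K : ℕ, ∀ m, hdimk k (CohB1.tensorPow ((Scheme.Modules.pullback f).obj L) m) i ≤
        d * hdimk k (CohB1.tensorPow L m) i + K * E n m ∧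
      d * hdimk k (CohB1.tensorPow L m) i ≤
        hdimk k (CohB1.tensorPow ((Scheme.Modules.pullback f).obj L) m) i + K * E n m := by
  haveI : IsNoetherian Y := CurveCohLib.isNoetherian_of_proper (k := k)
  haveI : IsNoetherian X := CurveCohLib.isNoetherian_of_proper (k := k)
  haveI : CompactSpace Y := QuasiCompact.compactSpace_of_compactSpace (Y ↘ Spec (CommRingCat.of k))
  haveI : Y.IsSeparated := AmpleVan.isSeparated_of_proper (X := Y) (A := k)
  haveI : IsProper f := by
    haveI : IsProper (f ≫ (X ↘ Spec (CommRingCat.of k))) := by rw [hf]; infer_instance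
    exact IsProper.of_comp f (X ↘ Spec (CommRingCat.of k))
  have hfd : VarDim.fdeg f (genericPoint Y) = 0 := by
    letI := (f.residueFieldMap (genericPoint Y)).hom.toAlgebra
    haveI : Module.Finite (X.residueField (f (genericPoint Y))) (Y.residueField (genericPoint Y)) :=
      Module.finite_of_finrank_pos (show 0 < f.residueDegree (genericPoint Y) by omega)
    show Cardinal.toNat (Algebra.trdeg (X.residueField (f (genericPoint Y))) (Y.residueField (genericPoint Y))) = 0
    rw [trdeg_eq_zero, map_zero]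
  have hnY : topologicalKrullDim Y = n := by
    rw [VarDim.topologicalKrullDim_eq_deg_genericPoint (Y ↘ Spec (CommRingCat.of k)), VarDim.deg_eq_add f (X ↘ Spec (CommRingCat.of k)) hf,
      hfd, add_zero, hdom, ← VarDim.topologicalKrullDim_eq_deg_genericPoint (X ↘ Spec (CommRingCat.of k))]
    exact hn
  obtain ⟨m₀, hm₀⟩ := exists_finrank_push k f hf hA (F := Coh.structureModule Y) QCoh.isCoh_structureModule'
    (L := fun _ : Fin 1 => L) fun _ => hL
  obtain ⟨b, hb, hB⟩ := AmpleX.eventually_ample_tensor hA CurveDeg.isInvertible_structureModule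
  set m := max m₀ b
  obtain ⟨s₁, hs₁⟩ := S1664.GenSec.exists_mem_genLocus
    (InvX.isInvertible_tensorMod (InvX.isInvertible_tensorPow hA.1 m) CurveDeg.isInvertible_structureModule)
    (hB m (le_max_right _ _)).2 (genericPoint Y)
  obtain ⟨c⟩ := H23.PicMul.comm (CohB1.tensorPow A m) (Coh.structureModule Y)
  set G := CohB1.tensorMod (Coh.structureModule Y) (CohB1.tensorPow A m) with hGdef
  have hG : PicF.IsInvertible G :=
    InvX.isInvertible_tensorMod CurveDeg.isInvertible_structureModule (InvX.isInvertible_tensorPow hA.1 m)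
  have hs : genericPoint Y ∈ CohB1.genLocus G (s₁ ≫ c.hom) := mem_genLocus_comp c s₁ hs₁
  obtain ⟨U, hU, hηU⟩ : ∃ U : Y.Opens, IsIso ((Scheme.Modules.restrictFunctor U.ι).map (s₁ ≫ c.hom)) ∧
      genericPoint Y ∈ U := Opens.mem_sSup.1 hs
  obtain ⟨hGpush, hfr⟩ := hm₀ m (le_max_left _ _)
  have hlen := Nakai.len_push_invertible f hdom
    (fun y hy => Nakai.eq_generic_of_map_eq f f.isClosedMap hnY hn hy) hG (s₁ ≫ c.hom) (Nakai.ne_zero_of_mem_genLocus hs)
  have hU' : (U : Set Y).Nonempty := ⟨_, hηU⟩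
  obtain ⟨K₁, hK₁⟩ := close_of_generic k hA hnY (PicClLib.isInvertible_pullback f hL)
    QCoh.isCoh_structureModule' (AmpleVan.isCoh_invertible hG) (s₁ ≫ c.hom)
    (@ExtShX.isIso_stalk_of_restrict _ U _ _ _ hU _ hηU) i
  obtain ⟨K₂, hK₂⟩ := close_free k hH hn hL hGpush (r := d) (by
    letI := (CurveBundle.isField_stalk_generic (X := X)).toField
    haveI := QCoh.finite_stalk_of_isFT hGpush.1 hGpush.2 (genericPoint X)
    have h1 := H23.FiniteFibreSum.length_eq_finrank (X.presheaf.stalk (genericPoint X))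
      (((Coh.push f).obj G).presheaf.stalk (genericPoint X))
    rw [Snapper.len, h1, hd, ENat.toNat_coe] at hlen
    exact_mod_cast hlen) i
  refine ⟨K₁ + K₂, fun N => ?_⟩
  obtain ⟨e⟩ : Nonempty (CohB1.tensorPow ((Scheme.Modules.pullback f).obj L) N ≅
      (Scheme.Modules.pullback f).obj (CohB1.tensorPow L N)) := cl_eq_iff.1 (by
    rw [cl_tensorPow, show PicF.cl ((Scheme.Modules.pullback f).obj (CohB1.tensorPow L N)) =
      PicF.pullCl f (PicF.cl (CohB1.tensorPow L N)) from rfl, cl_tensorPow, pullCl_pow]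
    rfl)
  have key : hdimk k (pw ((Scheme.Modules.pullback f).obj L) G N) i = hdimk k (pw L ((Coh.push f).obj G) N) i :=
    (finrank_HH_iso k (((DCoh.tensorBi (X := Y)).obj G).mapIso e) i).trans
      (hfr (CohB1.tensorPow L N) (fun _ => N) (InvX.isInvertible_tensorPow hL N)
        (by rw [Finset.prod_const, Finset.card_univ, Fintype.card_fin, pow_one, cl_tensorPow]) i)
  have kY : hdimk k (pw ((Scheme.Modules.pullback f).obj L) (Coh.structureModule Y) N) i =
      hdimk k (CohB1.tensorPow ((Scheme.Modules.pullback f).obj L) N) i :=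
    hdimk_pw_one k _ N i
  have kX : hdimk k (pw L (Coh.structureModule X) N) i = hdimk k (CohB1.tensorPow L N) i := hdimk_pw_one k _ N i
  obtain ⟨a, b⟩ := hK₁ N
  obtain ⟨a', b'⟩ := hK₂ N
  rw [hdimk_pw_freeMod k hL, kX] at a' b'
  rw [key, kY] at a b
  simp only [hGdef] at a b a' b' ⊢
  rw [add_mul]
  omega

end Groth.Agent.AsympCoh
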