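import Groth.Agent.AsympCoh.Hom
import Groth.Agent.AVPoinc.ExtPowFree
import Groth.Agent.KFlatLib.Perfect.BettiStalk
import Groth.Agent.ExtShX.KoszulDiv
import Groth.Agent.ExtShX.DualTensor
import Groth.Agent.GGTriv.Basic

/-!
# `ĥ(X, F, L) = rank(F) ĥ(X, L)`
-/

set_option linter.style.haveILetI false
set_option linter.unusedSectionVars false
set_option backward.isDefEq.respectTransparency false
set_option backward.isDefEq.respectTransparency.types false
set_option maxHeartbeats 1000000

universe u

open CategoryTheory CategoryTheory.Limits AlgebraicGeometry TopologicalSpace Opposite Filter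
open Groth.Agent.H23.PicMul W4c5asymptcohfn

attribute [local instance] HasDerivedCategory.standard

noncomputable section

namespace Groth.Agent.AsympCoh

open Groth.Agent Groth.Agent.HilbPoly

variable {X : Scheme.{u}}

/-- Sections generating at `x` give a map from a free module bijective on the stalk at `x`. -/
theorem exists_free_hom {G : X.Modules} {x : X} {N : ℕ} (s : Fin N → Γ(G, ⊤))
    (hs : Submodule.span (X.presheaf.stalk x) (Set.range fun j => G.presheaf.germ ⊤ x trivial (s j)) = ⊤)
    [Module.Finite (X.presheaf.stalk x) (G.presheaf.stalk x)] (hfld : IsField (X.presheaf.stalk x)) {r : ℕ}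
    (hr : Module.finrank (X.presheaf.stalk x) (G.presheaf.stalk x) = r) :
    ∃ φ : FlatMod.freeMod X r ⟶ G, IsIso ((DerSch.stalkFunctor X x).map φ) := by
  classical
  letI : Field (X.presheaf.stalk x) := hfld.toField
  obtain ⟨b, hb, hspan, hli⟩ := exists_linearIndependent (X.presheaf.stalk x)
    (Set.range fun j => G.presheaf.germ ⊤ x trivial (s j))
  haveI : Fintype b := hli.setFinite.fintype
  let B : Module.Basis b (X.presheaf.stalk x) (G.presheaf.stalk x) := Module.Basis.mk hli
    (by rw [Subtype.range_coe, hspan, hs])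
  have hcard : Fintype.card b = r := by rw [← hr, Module.finrank_eq_card_basis B]
  let e : Fin r ≃ b := (Fintype.equivFinOfCardEq hcard).symm
  have hsel : ∀ i : Fin r, ∃ j, G.presheaf.germ ⊤ x trivial (s j) = ((e i : b) : G.presheaf.stalk x) :=
    fun i => hb (e i).2
  choose j hj using hsel
  let φ : FlatMod.freeMod X r ⟶ G := Sigma.desc fun i => InvX.ofSect (s (j i))
  refine ⟨φ, ?_⟩
  let F := DerSch.stalkFunctor X x
  have key : ∀ i, F.map φ (KFlatLib.eBasis x r i) = ((B.reindex e.symm) i : G.presheaf.stalk x) := by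
    intro i
    rw [KFlatLib.eBasis_apply, KFlatLib.eGerm_eq, ← CategoryTheory.comp_apply, ← Functor.map_comp, Sigma.ι_desc,
      Module.Basis.reindex_apply, Equiv.symm_symm, Module.Basis.mk_apply, ← hj i]
    exact ExtShX.stalk_ofSect (s (j i)) x
  have hlin : (F.map φ).hom = ((KFlatLib.eBasis x r).equiv (B.reindex e.symm) (Equiv.refl _)).toLinearMap := by
    refine (KFlatLib.eBasis x r).ext fun i => ?_
    exact (key i).trans ((KFlatLib.eBasis x r).equiv_apply i (B.reindex e.symm) (Equiv.refl _)).symm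
  rw [ConcreteCategory.isIso_iff_bijective]
  show Function.Bijective (F.map φ).hom
  rw [hlin]
  exact LinearEquiv.bijective _

theorem isCoh_free [IsLocallyNoetherian X] (r : ℕ) : Coh.IsCoh (FlatMod.freeMod X r) :=
  ⟨GGTriv.isQCoh_freeMod r, QCoh.isFT_of_isFP (QCoh.isFP_of_isFinLocFree fun x => by
    obtain ⟨U, hxU, h⟩ := GGTriv.isFinLocFreeOfRank_freeMod (X := X) r x
    exact ⟨U, r, hxU, h⟩)⟩

open Groth.Agent.PnCoh.Finite (mapLin) in
/-- The cohomology of a finite copower. -/
theorem finrank_HH_copower (k : Type u) [Field k] [X.Over (Spec (CommRingCat.of k))]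
    [IsProper (X ↘ Spec (CommRingCat.of k))] {M : X.Modules} (hM : Coh.IsCoh M) (r n : ℕ) :
    Module.finrank k (Coh.HH X (∐ fun _ : Fin r => M) n) = r * Module.finrank k (Coh.HH X M n) := by
  classical
  haveI := CurveCohLib.finite_HH (k := k) hM n
  let P := ∐ fun _ : Fin r => M
  let incl : Fin r → (M ⟶ P) := fun i => Sigma.ι (fun _ : Fin r => M) i
  let proj : Fin r → (P ⟶ M) := fun l => Sigma.desc fun j => if j = l then 𝟙 M else 0
  have hip : ∀ j l, incl j ≫ proj l = if j = l then 𝟙 M else 0 := fun j l => Sigma.ι_desc _ _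
  have htot : ∑ l, proj l ≫ incl l = 𝟙 P := by
    refine Sigma.hom_ext _ _ fun j => ?_
    rw [Preadditive.comp_sum, Category.comp_id, Finset.sum_eq_single j]
    · rw [← Category.assoc, hip, if_pos rfl, Category.id_comp]
    · intro l _ hl
      rw [← Category.assoc, hip, if_neg (Ne.symm hl), zero_comp]
    · simp
  have hsum : ∀ (f : Fin r → (P ⟶ P)) (x : Coh.HH X P n),
      mapLin k (∑ i, f i) n x = ∑ i, mapLin k (f i) n x := fun f x => by
    let g : (P ⟶ P) →+ Coh.HH X P n :=
      AddMonoidHom.mk' (fun φ => mapLin k φ n x) fun φ ψ => CurveDuality.mapLin_add k φ ψ n x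
    exact map_sum g f _
  have hcomp : ∀ {A B C : X.Modules} (φ : A ⟶ B) (ψ : B ⟶ C) (x : Coh.HH X A n),
      mapLin k ψ n (mapLin k φ n x) = mapLin k (φ ≫ ψ) n x := fun φ ψ x =>
    PnCoh.Finite.map_map (Y := X.toPresheafedSpace.carrier) ((QCoh.toAbFunctor X).map_comp _ _).symm n x
  let tm : Coh.HH X P n →ₗ[k] (Fin r → Coh.HH X M n) := LinearMap.pi fun i => mapLin k (proj i) n
  have hbij : Function.Bijective tm := by
    refine Function.bijective_iff_has_inverse.2
      ⟨fun y => ∑ i, mapLin k (incl i) n (y i), fun x => ?_, fun y => funext fun j => ?_⟩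
    · show ∑ i, mapLin k (incl i) n (mapLin k (proj i) n x) = x
      simp only [hcomp]
      rw [← hsum, htot, CurveDuality.mapLin_id]
    · show mapLin k (proj j) n (∑ i, mapLin k (incl i) n (y i)) = y j
      rw [map_sum, Finset.sum_eq_single j]
      · rw [hcomp, hip, if_pos rfl, CurveDuality.mapLin_id]
      · intro i _ hi
        rw [hcomp, hip, if_neg hi, CurveDuality.mapLin_zero]
      · exact fun h => absurd (Finset.mem_univ j) h
  rw [(LinearEquiv.ofBijective tm hbij).finrank_eq, Module.finrank_pi_fintype, Finset.sum_const, Finset.card_univ,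
    Fintype.card_fin, smul_eq_mul]

variable (k : Type u) [Field k] [X.Over (Spec (CommRingCat.of k))] [IsProper (X ↘ Spec (CommRingCat.of k))]
  {H : X.Modules} [IsIntegral X]

/-- A map bijective at the generic stalk does not change `ĥ`. -/
theorem hhatF_eq_of_generic (hH : CohB1.IsAmple H) {n : ℕ} (hn : topologicalKrullDim X = n) {L : X.Modules}
    (hL : PicF.IsInvertible L) {M N : X.Modules} (hM : Coh.IsCoh M) (hN : Coh.IsCoh N) (φ : M ⟶ N)
    (hφ : IsIso ((DerSch.stalkFunctor X (genericPoint X)).map φ)) (i : ℕ) :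
    hhatF k X n i M L = hhatF k X n i N L := by
  haveI : IsNoetherian X := CurveCohLib.isNoetherian_of_proper (k := k)
  have hK := QCoh.isCoh_kernel hM hN φ
  have hQ := QCoh.isCoh_cokernel hM.1 hN φ
  have hcK := QCoh.isClosed_support_of_isFT hK.1 hK.2
  have hcQ := QCoh.isClosed_support_of_isFT hQ.1 hQ.2
  let U : X.Opens := ⟨(CohB1.support (kernel φ) ∪ CohB1.support (cokernel φ))ᶜ, (hcK.union hcQ).isOpen_compl⟩
  have hU : (U : Set X).Nonempty := ⟨genericPoint X, fun h => h.elim
    (Snapper.notMem_support_kernel φ inferInstance) (Snapper.notMem_support_cokernel φ inferInstance)⟩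
  have hI : Coh.IsCoh (Abelian.image φ) := QCoh.isCoh_kernel hN hQ _
  let S₁ := ShortComplex.mk (kernel.ι φ) (Abelian.factorThruImage φ)
    ((cancel_mono (Abelian.image.ι φ)).1 (by rw [Category.assoc, Abelian.image.fac, kernel.condition, zero_comp]))
  have hS₁ : S₁.ShortExact :=
    { exact := ShortComplex.exact_of_f_is_kernel _ (KernelFork.IsLimit.ofι' _ _ fun {T} t ht =>
        ⟨kernel.lift φ t (by rw [← Abelian.image.fac φ, reassoc_of% ht, zero_comp]), kernel.lift_ι _ _ _⟩)
      mono_f := inferInstance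
      epi_g := inferInstance }
  let S₂ := ShortComplex.mk (Abelian.image.ι φ) (cokernel.π φ) (kernel.condition _)
  have hS₂ : S₂.ShortExact :=
    { exact := ShortComplex.exact_of_f_is_kernel _ (kernelIsKernel (cokernel.π φ))
      mono_f := inferInstance
      epi_g := inferInstance }
  exact ((hhatF_ses k hH hn hL hS₁ hK hM hI i).1
      (dimLT_of_subset_compl k hn hK hU fun x hx h => h (Or.inl hx))).trans
    ((hhatF_ses k hH hn hL hS₂ hI hN hQ i).2 (dimLT_of_subset_compl k hn hQ hU fun x hx h => h (Or.inr hx)))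

/-- `ĥ` of a free module. -/
theorem hhatF_freeMod (hH : CohB1.IsAmple H) {n : ℕ} (hn : topologicalKrullDim X = n) {L : X.Modules}
    (hL : PicF.IsInvertible L) (r i : ℕ) :
    hhatF k X n i (FlatMod.freeMod X r) L = (r : ℝ) * hhat k X n i L := by
  haveI : IsNoetherian X := CurveCohLib.isNoetherian_of_proper (k := k)
  rw [hhat_eq_hhatF, hhatF, hhatF, ← limsup_const_mul (bdd_cohSeq k hH hn hL QCoh.isCoh_structureModule' i)
    (by positivity)]
  refine congrArg (fun u => limsup u atTop) (funext fun m => ?_)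
  set W := CohB1.tensorPow L m
  haveI := AmpleVan.isEquivalence_tw (InvX.isInvertible_tensorPow hL m)
  haveI : (AmpleVan.tw W).IsLeftAdjoint := Functor.isLeftAdjoint_of_isEquivalence
  let e : pw L (FlatMod.freeMod X r) m ≅ ∐ fun _ : Fin r => pw L (Coh.structureModule X) m :=
    PreservesCoproduct.iso (AmpleVan.tw W) _
  rw [cohSeq_eq, cohSeq_eq, hdimk, show Module.finrank k (Coh.HH X (pw L (FlatMod.freeMod X r) m) i) = _ from finrank_HH_iso k e i,
    finrank_HH_copower k (isCoh_pw hL QCoh.isCoh_structureModule' m) r i]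
  push_cast
  ring
/-- `ĥ(X, F, L) = rank(F) ĥ(X, L)`. -/
theorem hhatF_eq_rank_mul (hH : CohB1.IsAmple H) {n : ℕ} (hn : topologicalKrullDim X = n) {L : X.Modules}
    (hL : PicF.IsInvertible L) {F : X.Modules} (hF : Coh.IsCoh F) {r : ℕ}
    (hr : Module.finrank (X.presheaf.stalk (genericPoint X)) (F.presheaf.stalk (genericPoint X)) = r) (i : ℕ) :
    hhatF k X n i F L = (r : ℝ) * hhat k X n i L := by
  haveI : IsNoetherian X := CurveCohLib.isNoetherian_of_proper (k := k)
  haveI : CompactSpace X := QuasiCompact.compactSpace_of_compactSpace (X ↘ Spec (CommRingCat.of k))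
  haveI : X.IsSeparated := AmpleVan.isSeparated_of_proper (X := X) (A := k)
  set η := genericPoint X
  obtain ⟨n₁, h₁⟩ := AmpleX.eventually_generated_fin hH hF.1 hF.2
  obtain ⟨n₂, -, h₂⟩ := AmpleX.eventually_ample_tensor hH CurveDeg.isInvertible_structureModule
  set p := max n₁ n₂
  have hP := InvX.isInvertible_tensorPow hH.1 p
  obtain ⟨c⟩ := H23.PicMul.unit (CohB1.tensorPow H p)
  obtain ⟨s, hs⟩ := S1664.GenSec.exists_mem_genLocus hP
    (AmpleX.isGloballyGenerated_of_iso c (h₂ p (le_max_right _ _)).2) η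
  obtain ⟨U, hU, hηU⟩ : ∃ U : X.Opens,
      IsIso ((Scheme.Modules.restrictFunctor U.ι).map s) ∧ η ∈ U := Opens.mem_sSup.1 hs
  haveI : IsIso ((Scheme.Modules.restrictFunctor U.ι).map s) := hU
  haveI := isIso_restrict_mulHom s F (U := U)
  have hψ : IsIso ((DerSch.stalkFunctor X η).map (mulHom s F)) := ExtShX.isIso_stalk_of_restrict _ hηU
  obtain ⟨G, iso, N, t, ht⟩ := h₁ p (le_max_left _ _)
  have hFp : Coh.IsCoh (CohB1.tensorMod F (CohB1.tensorPow H p)) :=
    AmpleVan.isCoh_tensor hF (AmpleVan.isCoh_invertible hP)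
  have hG : Coh.IsCoh G := QCoh.isCoh_of_mono iso.hom hFp ((QCoh.isQCoh_iff_iso iso).2 hFp.1)
  haveI := QCoh.finite_stalk_of_isFT hG.1 hG.2 η
  let E : (DerSch.stalkFunctor X η).obj F ≅ (DerSch.stalkFunctor X η).obj G :=
    @asIso _ _ _ _ _ hψ ≪≫ (DerSch.stalkFunctor X η).mapIso iso.symm
  have hrG : Module.finrank (X.presheaf.stalk η) (G.presheaf.stalk η) = r :=
    (LinearEquiv.finrank_eq E.toLinearEquiv).symm.trans hr
  obtain ⟨φ, hφ⟩ := exists_free_hom t (ht η) (Field.toIsField X.functionField) hrG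
  rw [hhatF_eq_of_generic k hH hn hL hF hFp (mulHom s F) hψ i,
    hhatF_eq_of_generic k hH hn hL hFp hG iso.inv inferInstance i,
    ← hhatF_eq_of_generic k hH hn hL (isCoh_free r) hG φ hφ i, hhatF_freeMod k hH hn hL r i]

end Groth.Agent.AsympCoh
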