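import Groth.Agent.AsympCoh.Word
import Groth.Agent.AsympCoh.Limsup
import Groth.Agent.Snapper.IsoOn
import Groth.Agent.Big.Alt
import Groth.Prelude.Def_W4c5asymptcohfnACF

/-!
# Asymptotic cohomological functions: boundedness and negligible modules
-/

set_option linter.style.haveILetI false
set_option linter.unusedSectionVars false
set_option backward.isDefEq.respectTransparency false
set_option backward.isDefEq.respectTransparency.types false
set_option maxHeartbeats 1000000

universe u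

open CategoryTheory CategoryTheory.Limits AlgebraicGeometry TopologicalSpace Opposite MonoidalCategory Filter Topology
open Groth.Agent.H23.PicMul

attribute [local instance] HasDerivedCategory.standard

noncomputable section

namespace Groth.Agent.AsympCoh

open Groth.Agent Groth.Agent.HilbPoly

/-- The order of growth one degree below `n`. -/
def E : ℕ → ℕ → ℕ
  | 0, _ => 0
  | n + 1, N => (N + 1) ^ n

theorem E_mono (n : ℕ) {N M : ℕ} (h : N ≤ M) : E n N ≤ E n M := by
  cases n with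
  | zero => exact le_rfl
  | succ n => exact Nat.pow_le_pow_left (by omega) n

theorem E_mul_le (n N : ℕ) : E n N * (N + 1) ≤ (N + 1) ^ n := by
  cases n with
  | zero => simp [E]
  | succ n => rw [E, pow_succ]

/-- `E n (c m) = o(m^n)`. -/
theorem tendsto_E (n c : ℕ) : Tendsto (fun m : ℕ => (E n (c * m) : ℝ) / (m : ℝ) ^ n) atTop (𝓝 0) := by
  cases n with
  | zero => simp [E]
  | succ n =>
    refine squeeze_zero' (Eventually.of_forall fun m => by positivity)
      ((eventually_ge_atTop 1).mono fun m hm => ?_)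
      (tendsto_const_div_atTop_nhds_zero_nat (((c : ℝ) + 1) ^ n))
    have hm' : (1 : ℝ) ≤ (m : ℝ) := by exact_mod_cast hm
    rw [E, pow_succ (m : ℝ), div_le_div_iff₀ (by positivity) (by positivity)]
    push_cast
    have h1 : ((c : ℝ) * m + 1) ^ n ≤ ((c + 1) * (m : ℝ)) ^ n :=
      pow_le_pow_left₀ (by positivity) (by nlinarith) n
    calc ((c : ℝ) * m + 1) ^ n * m ≤ ((c + 1) * (m : ℝ)) ^ n * m := mul_le_mul_of_nonneg_right h1 (by positivity)
      _ = ((c : ℝ) + 1) ^ n * ((m : ℝ) ^ n * m) := by rw [mul_pow, mul_assoc]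

variable {X : Scheme.{u}} (k : Type u) [Field k] [X.Over (Spec (CommRingCat.of k))]
  [IsProper (X ↘ Spec (CommRingCat.of k))] {H : X.Modules}

/-- Modules with support of dimension `< n` grow at most like `E n`. -/
theorem bound_E (hH : CohB1.IsAmple H) {S : Finset X.Modules} (hS : ∀ P ∈ S, PicF.IsInvertible P) :
    ∀ (n : ℕ) (F : X.Modules), Coh.IsCoh F → DimLT F n → ∀ i, ∃ K, ∀ l : List X.Modules, (∀ P ∈ l, P ∈ S) →
      hdimk k (twl l F) i ≤ K * E n l.length ∧ hdimkPred k (twl l F) i ≤ K * E n l.length := by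
  haveI : IsNoetherian X := CurveCohLib.isNoetherian_of_proper (k := k)
  intro n F hF hd i
  cases n with
  | zero =>
    refine ⟨0, fun l hl => ?_⟩
    have hl' : AllInv l := fun P hP => hS P (hl P hP)
    rw [hdimk_eq_zero_of_dimLT k (isCoh_twl hl' hF) (dimLT_twl hd l) (Nat.zero_le i),
      hdimkPred_eq_zero k (isCoh_twl hl' hF) (dimLT_twl hd l)]
    exact ⟨Nat.zero_le _, Nat.zero_le _⟩
  | succ d =>
    obtain ⟨K₁, h₁⟩ := growth k hH hS d F hF hd i
    cases i with
    | zero => exact ⟨K₁, fun l hl => ⟨h₁ l hl, Nat.zero_le _⟩⟩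
    | succ i =>
      obtain ⟨K₂, h₂⟩ := growth k hH hS d F hF hd i
      exact ⟨K₁ + K₂, fun l hl => ⟨(h₁ l hl).trans (Nat.mul_le_mul_right _ (Nat.le_add_right _ _)),
        (h₂ l hl).trans (Nat.mul_le_mul_right _ (Nat.le_add_left _ _))⟩⟩

/-- Adjacent words differ by one degree less. -/
theorem step_E (hH : CohB1.IsAmple H) {S : Finset X.Modules} (hS : ∀ P ∈ S, PicF.IsInvertible P)
    {A : X.Modules} {ξ : X} {n : ℕ} (hA : IsPiece A ξ n) (i : ℕ) :
    ∃ K, ∀ (P : X.Modules) (l : List X.Modules), P ∈ S → (∀ Q ∈ l, Q ∈ S) →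
      hdimk k (twl (P :: l) A) i ≤ hdimk k (twl l A) i + K * E n (l.length + 1) ∧
      hdimk k (twl l A) i ≤ hdimk k (twl (P :: l) A) i + K * E n (l.length + 1) := by
  classical
  have hone : ∀ P : S, ∃ K, ∀ l : List X.Modules, (∀ Q ∈ l, Q ∈ S) →
      hdimk k (twl (P.1 :: l) A) i ≤ hdimk k (twl l A) i + K * E n (l.length + 1) ∧
      hdimk k (twl l A) i ≤ hdimk k (twl (P.1 :: l) A) i + K * E n (l.length + 1) := by
    intro P
    obtain ⟨C₁, C₂, hC₁, hd₁, hC₂, hd₂, h⟩ := hA.step k hH (hS P.1 P.2)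
    obtain ⟨K₁, hK₁⟩ := bound_E k hH hS n C₁ hC₁ hd₁ i
    obtain ⟨K₂, hK₂⟩ := bound_E k hH hS n C₂ hC₂ hd₂ i
    refine ⟨K₁ + K₂, fun l hl => ?_⟩
    obtain ⟨u₁, v₁⟩ := hK₁ (P.1 :: l) fun Q hQ => by
      rcases List.mem_cons.1 hQ with rfl | hQ
      · exact P.2
      · exact hl Q hQ
    obtain ⟨u₂, v₂⟩ := hK₂ l hl
    obtain ⟨a, b⟩ := h l (fun Q hQ => hS Q (hl Q hQ)) i
    rw [List.length_cons] at u₁ v₁
    have hp : K₂ * E n l.length ≤ K₂ * E n (l.length + 1) := Nat.mul_le_mul_left _ (E_mono n (Nat.le_succ _))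
    rw [add_mul]
    constructor <;> omega
  choose K hK using hone
  refine ⟨∑ P : S, K P, fun P l hP hl => ?_⟩
  obtain ⟨a, b⟩ := hK ⟨P, hP⟩ l hl
  change hdimk k (twl (P :: l) A) i ≤ _ at a
  change _ ≤ hdimk k (twl (P :: l) A) i + _ at b
  have : K ⟨P, hP⟩ * E n (l.length + 1) ≤ (∑ P : S, K P) * E n (l.length + 1) :=
    Nat.mul_le_mul_right _ (Finset.single_le_sum (fun Q _ => Nat.zero_le (K Q)) (Finset.mem_univ _))
  constructor <;> omega

/-- Words differing by a prefix. -/
theorem chain_E (hH : CohB1.IsAmple H) {S : Finset X.Modules} (hS : ∀ P ∈ S, PicF.IsInvertible P)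
    {A : X.Modules} {ξ : X} {n : ℕ} (hA : IsPiece A ξ n) (i : ℕ) :
    ∃ K, ∀ (l' l : List X.Modules), (∀ Q ∈ l', Q ∈ S) → (∀ Q ∈ l, Q ∈ S) →
      hdimk k (twl (l' ++ l) A) i ≤ hdimk k (twl l A) i + K * l'.length * E n (l'.length + l.length) ∧
      hdimk k (twl l A) i ≤ hdimk k (twl (l' ++ l) A) i + K * l'.length * E n (l'.length + l.length) := by
  obtain ⟨K, hK⟩ := step_E k hH hS hA i
  refine ⟨K, fun l' l hl' hl => ?_⟩
  induction l' with
  | nil => simp
  | cons P l' ih =>
    obtain ⟨a, b⟩ := ih fun Q hQ => hl' Q (List.mem_cons_of_mem _ hQ)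
    obtain ⟨c, d⟩ := hK P (l' ++ l) (hl' P List.mem_cons_self) fun Q hQ => by
      rcases List.mem_append.1 hQ with h | h
      · exact hl' Q (List.mem_cons_of_mem _ h)
      · exact hl Q h
    rw [List.length_append] at c d
    rw [List.cons_append, List.length_cons, Nat.mul_add, Nat.mul_one, Nat.add_mul,
      show l'.length + 1 + l.length = l'.length + l.length + 1 by omega]
    have hm : K * l'.length * E n (l'.length + l.length) ≤ K * l'.length * E n (l'.length + l.length + 1) :=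
      Nat.mul_le_mul_left _ (E_mono n (Nat.le_succ _))
    constructor <;> omega

omit [IsProper (X ↘ Spec (CommRingCat.of k))] in
/-- `h^i` of a word depends only on its class. -/
theorem hdimk_twl_of_cl {F M : X.Modules} {l : List X.Modules} (h : (l.map PicF.cl).prod = PicF.cl M) (i : ℕ) :
    hdimk k (twl l F) i = hdimk k (CohB1.tensorMod F M) i := by
  obtain ⟨e⟩ := cl_eq_iff.1 (show PicF.cl (twl l F) = PicF.cl (CohB1.tensorMod F M) by
    rw [cl_twl, cl_tensor, h])
  exact finrank_HH_iso k e i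

omit [IsProper (X ↘ Spec (CommRingCat.of k))] in
theorem hdimk_twl_replicate (F L : X.Modules) (m i : ℕ) :
    hdimk k (twl (List.replicate m L) F) i = hdimk k (pw L F m) i :=
  hdimk_twl_of_cl k (by rw [List.map_replicate, List.prod_replicate, cl_tensorPow]) i

theorem dimLT_of_dim {n : ℕ} (hn : topologicalKrullDim X = n) (F : X.Modules) : DimLT F (n + 1) :=
  dimLT_of_subset (Set.subset_univ _) (lt_succ_of_le ((topologicalKrullDim_subspace_le X Set.univ).trans hn.le))

omit [IsProper (X ↘ Spec (CommRingCat.of k))] in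
open W4c5asymptcohfn in
theorem cohSeq_eq (n i : ℕ) (F L : X.Modules) (m : ℕ) :
    cohSeq k X n i F L m = (hdimk k (pw L F m) i : ℝ) * n.factorial / (m : ℝ) ^ n := rfl

open W4c5asymptcohfn in
theorem bdd_cohSeq (hH : CohB1.IsAmple H) {n : ℕ} (hn : topologicalKrullDim X = n) {L : X.Modules}
    (hL : PicF.IsInvertible L) {F : X.Modules} (hF : Coh.IsCoh F) (i : ℕ) : Bdd01 (cohSeq k X n i F L) := by
  refine ⟨fun m => by rw [cohSeq_eq]; positivity, ?_⟩
  obtain ⟨C, hC⟩ := growth k hH (S := {L}) (by simpa using hL) n F hF (dimLT_of_dim hn F) i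
  refine ⟨(C : ℝ) * 2 ^ n * n.factorial, (eventually_ge_atTop 1).mono fun m hm => ?_⟩
  have h := hC (List.replicate m L) fun P hP => by simp [List.eq_of_mem_replicate hP]
  rw [hdimk_twl_replicate, List.length_replicate] at h
  have hm' : (1 : ℝ) ≤ m := by exact_mod_cast hm
  have h' : (hdimk k (pw L F m) i : ℝ) ≤ (C : ℝ) * (2 ^ n * (m : ℝ) ^ n) := by
    refine le_trans (by exact_mod_cast h : (hdimk k (pw L F m) i : ℝ) ≤ (C : ℝ) * ((m : ℝ) + 1) ^ n) ?_
    rw [← mul_pow]
    gcongr
    linarith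
  rw [cohSeq_eq, div_le_iff₀ (by positivity)]
  calc (hdimk k (pw L F m) i : ℝ) * n.factorial ≤ (C : ℝ) * (2 ^ n * (m : ℝ) ^ n) * n.factorial := by gcongr
    _ = _ := by ring

open W4c5asymptcohfn in
/-- Sequences differing by modules of smaller dimension have the same `limsup`. -/
theorem hhatF_eq_of_le (hH : CohB1.IsAmple H) {n : ℕ} (hn : topologicalKrullDim X = n) {L : X.Modules}
    (hL : PicF.IsInvertible L) {F G : X.Modules} (hF : Coh.IsCoh F) (hG : Coh.IsCoh G) (i : ℕ) (K : ℕ)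
    (h : ∀ m, hdimk k (pw L F m) i ≤ hdimk k (pw L G m) i + K * E n m ∧
      hdimk k (pw L G m) i ≤ hdimk k (pw L F m) i + K * E n m) :
    hhatF k X n i F L = hhatF k X n i G L := by
  refine limsup_eq_of_diff (bdd_cohSeq k hH hn hL hF i) (bdd_cohSeq k hH hn hL hG i) ?_
  have h0 : Tendsto (fun m : ℕ => (K : ℝ) * n.factorial * ((E n (1 * m) : ℝ) / (m : ℝ) ^ n)) atTop (𝓝 0) := by
    simpa using (tendsto_E n 1).const_mul ((K : ℝ) * n.factorial)
  refine squeeze_zero_norm (fun m => ?_) h0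
  obtain ⟨a, b⟩ := h m
  rw [cohSeq_eq, cohSeq_eq, ← sub_div, ← sub_mul, Real.norm_eq_abs, abs_div, abs_mul, Nat.abs_cast, one_mul,
    abs_of_nonneg (by positivity : (0 : ℝ) ≤ (m : ℝ) ^ n)]
  calc |(hdimk k (pw L F m) i : ℝ) - hdimk k (pw L G m) i| * n.factorial / (m : ℝ) ^ n
      ≤ (K : ℝ) * E n m * n.factorial / (m : ℝ) ^ n := by
        gcongr
        rw [abs_sub_le_iff]
        constructor <;> (rw [sub_le_iff_le_add']; exact_mod_cast ‹_›)
    _ = _ := by ring

open W4c5asymptcohfn in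
/-- `ĥ(X, F, L)` along a short exact sequence with a small end. -/
theorem hhatF_ses (hH : CohB1.IsAmple H) {n : ℕ} (hn : topologicalKrullDim X = n) {L : X.Modules}
    (hL : PicF.IsInvertible L) {S : ShortComplex X.Modules} (hS : S.ShortExact) (h₁ : Coh.IsCoh S.X₁)
    (h₂ : Coh.IsCoh S.X₂) (h₃ : Coh.IsCoh S.X₃) (i : ℕ) :
    (DimLT S.X₁ n → hhatF k X n i S.X₂ L = hhatF k X n i S.X₃ L) ∧
    (DimLT S.X₃ n → hhatF k X n i S.X₁ L = hhatF k X n i S.X₂ L) := by
  have hS1 : ∀ P ∈ ({L} : Finset X.Modules), PicF.IsInvertible P := by simpa using hL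
  have hl : ∀ m, ∀ P ∈ List.replicate m L, P ∈ ({L} : Finset X.Modules) := fun m P hP => by
    simp [List.eq_of_mem_replicate hP]
  have hses : ∀ m, _ := fun m => twl_ses k hS h₁ h₂ h₃ (l := List.replicate m L)
    (fun P hP => hS1 P (hl m P hP)) i
  constructor <;> intro hd
  · obtain ⟨K₁, hK₁⟩ := bound_E k hH hS1 n _ h₁ hd i
    obtain ⟨K₂, hK₂⟩ := bound_E k hH hS1 n _ h₁ hd (i + 1)
    refine hhatF_eq_of_le k hH hn hL h₂ h₃ i (K₁ + K₂) fun m => ?_
    have a := (hK₁ _ (hl m)).1
    have b := (hK₂ _ (hl m)).1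
    obtain ⟨-, c, d⟩ := hses m
    rw [hdimk_twl_replicate, List.length_replicate] at a b
    simp only [hdimk_twl_replicate] at c d
    rw [add_mul]
    constructor <;> omega
  · obtain ⟨K, hK⟩ := bound_E k hH hS1 n _ h₃ hd i
    refine hhatF_eq_of_le k hH hn hL h₁ h₂ i K fun m => ?_
    obtain ⟨a, b⟩ := hK _ (hl m)
    obtain ⟨c, d, -⟩ := hses m
    rw [List.length_replicate] at a b
    simp only [hdimk_twl_replicate] at a c d
    constructor <;> omega

variable [IsIntegral X]

include k in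
theorem isPiece_structure {n : ℕ} (hn : topologicalKrullDim X = n) :
    IsPiece (Coh.structureModule X) (genericPoint X) n := by
  haveI : IsNoetherian X := CurveCohLib.isNoetherian_of_proper (k := k)
  refine ⟨QCoh.isCoh_structureModule', ?_, ?_, fun s hs => ?_⟩
  · rw [genericPoint_closure]; exact Set.subset_univ _
  · exact (topologicalKrullDim_subspace_le X _).trans hn.le
  · obtain ⟨U, hU, hξU⟩ : ∃ U : X.Opens, IsIso ((Scheme.Modules.restrictFunctor U.ι).map s) ∧ genericPoint X ∈ U :=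
      Opens.mem_sSup.1 hs
    haveI : IsIso ((Scheme.Modules.restrictFunctor U.ι).map s) := hU
    have hf : Mono ((Scheme.Modules.pushforwardId X).inv.app (Coh.structureModule X)) := inferInstance
    exact mono_mulHom_of_mono s _ hf (mono_mulHom_push (𝟙 X) s hξU)

include k in
theorem dimLT_of_subset_compl {n : ℕ} (hn : topologicalKrullDim X = n) {F : X.Modules} (hF : Coh.IsCoh F)
    {U : X.Opens} (hU : (U : Set X).Nonempty) (h : CohB1.support F ⊆ (U : Set X)ᶜ) : DimLT F n := by
  haveI : IsNoetherian X := CurveCohLib.isNoetherian_of_proper (k := k)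
  refine dim_lt_closure (x := genericPoint X) ((topologicalKrullDim_subspace_le X _).trans hn.le)
    (QCoh.isClosed_support_of_isFT hF.1 hF.2) (by rw [genericPoint_closure]; exact Set.subset_univ _) fun hg => ?_
  exact h hg ((genericPoint_spec X).mem_open_set_iff U.2 |>.2 (by simpa using hU))

open W4c5asymptcohfn in
/-- `ĥ(X, F, L)` only depends on the generic stalk of `F`. -/
theorem hhatF_eq_of_isoOn (hH : CohB1.IsAmple H) {n : ℕ} (hn : topologicalKrullDim X = n) {L : X.Modules}
    (hL : PicF.IsInvertible L) {M N : X.Modules} (hM : Coh.IsCoh M) (hN : Coh.IsCoh N) (φ : M ⟶ N)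
    {U : X.Opens} (hU : (U : Set X).Nonempty) (hφ : Snapper.IsoOn U φ) (i : ℕ) :
    hhatF k X n i M L = hhatF k X n i N L := by
  haveI : IsNoetherian X := CurveCohLib.isNoetherian_of_proper (k := k)
  have hK := QCoh.isCoh_kernel hM hN φ
  have hQ := QCoh.isCoh_cokernel hM.1 hN φ
  obtain ⟨sK, sQ⟩ := Snapper.support_subset_compl hφ
  have hI : Coh.IsCoh (Abelian.image φ) := QCoh.isCoh_kernel hN hQ _
  let S₁ := ShortComplex.mk (kernel.ι φ) (Abelian.factorThruImage φ)
    ((cancel_mono (Abelian.image.ι φ)).1 (by rw [Category.assoc, Abelian.image.fac, kernel.condition, zero_comp]))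
  have hS₁ : S₁.ShortExact :=
    { exact := ShortComplex.exact_of_f_is_kernel _ (KernelFork.IsLimit.ofι' _ _ fun {T} t ht =>
        ⟨kernel.lift φ t (by rw [← Abelian.image.fac φ, reassoc_of% ht, zero_comp]), kernel.lift_ι _ _ _⟩)
      mono_f := inferInstance
      epi_g := inferInstance }
  let S₂ := ShortComplex.mk (Abelian.image.ι φ) (cokernel.π φ) (kernel.condition _)
  have hS₂ : S₂.ShortExact :=
    { exact := ShortComplex.exact_of_f_is_kernel _ (kernelIsKernel (cokernel.π φ))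
      mono_f := inferInstance
      epi_g := inferInstance }
  exact ((hhatF_ses k hH hn hL hS₁ hK hM hI i).1 (dimLT_of_subset_compl k hn hK hU sK)).trans
    ((hhatF_ses k hH hn hL hS₂ hI hN hQ i).2 (dimLT_of_subset_compl k hn hQ hU sQ))

end Groth.Agent.AsympCoh
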