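import Groth.Agent.HilbPoly.GGGrowth
import Groth.Agent.AmpleX.Generated
import Groth.Agent.AmpleVan.Uniform

/-!
# Twists by words of invertible modules: growth and step estimates
-/

set_option linter.style.haveILetI false
set_option linter.unusedSectionVars false
set_option backward.isDefEq.respectTransparency false
set_option backward.isDefEq.respectTransparency.types false
set_option maxHeartbeats 1000000

universe u

open CategoryTheory CategoryTheory.Limits AlgebraicGeometry TopologicalSpace Opposite MonoidalCategory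
open Groth.Agent.PnCoh.Finite (mapLin deltaLin)
open Groth.Agent.H23.PicMul

attribute [local instance] HasDerivedCategory.standard

noncomputable section

namespace Groth.Agent.AsympCoh

open Groth.Agent Groth.Agent.HilbPoly

variable {X : Scheme.{u}}

/-- Tensoring successively with the members of a list. -/
def twlF : List X.Modules → (X.Modules ⥤ X.Modules)
  | [] => 𝟭 X.Modules
  | P :: l => AmpleVan.tw P ⋙ twlF l

/-- `F ⊗ P₁ ⊗ ⋯ ⊗ Pₙ`. -/
abbrev twl (l : List X.Modules) (F : X.Modules) : X.Modules := (twlF l).obj F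

/-- All members are invertible. -/
abbrev AllInv (l : List X.Modules) : Prop := ∀ P ∈ l, PicF.IsInvertible P

theorem AllInv.tail {P : X.Modules} {l : List X.Modules} (h : AllInv (P :: l)) : AllInv l :=
  fun Q hQ => h Q (List.mem_cons_of_mem _ hQ)

theorem isEquivalence_twlF : ∀ {l : List X.Modules}, AllInv l → (twlF l).IsEquivalence
  | [], _ => inferInstanceAs (𝟭 X.Modules).IsEquivalence
  | P :: l, h => by
    haveI := AmpleVan.isEquivalence_tw (h P List.mem_cons_self)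
    haveI := isEquivalence_twlF h.tail
    exact inferInstanceAs (AmpleVan.tw P ⋙ twlF l).IsEquivalence

theorem isCoh_twl [IsLocallyNoetherian X] :
    ∀ {l : List X.Modules}, AllInv l → ∀ {F : X.Modules}, Coh.IsCoh F → Coh.IsCoh (twl l F)
  | [], _, _, hF => hF
  | P :: _, h, _, hF =>
    isCoh_twl h.tail (AmpleVan.isCoh_tensor hF (AmpleVan.isCoh_invertible (h P List.mem_cons_self)))

theorem support_twl : ∀ (l : List X.Modules) (F : X.Modules), CohB1.support (twl l F) ⊆ CohB1.support F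
  | [], _ => subset_rfl
  | P :: l, F => (support_twl l (CohB1.tensorMod F P)).trans (support_tensor_subset F P)

theorem twl_iso_tensor : ∀ (l : List X.Modules) (F : X.Modules),
    Nonempty (twl l F ≅ CohB1.tensorMod F (twl l (Coh.structureModule X)))
  | [], F => ⟨(AmpleVan.twUnit.app F).symm⟩
  | P :: l, F => by
    obtain ⟨e₁⟩ := twl_iso_tensor l (CohB1.tensorMod F P)
    obtain ⟨e₂⟩ := twl_iso_tensor l (CohB1.tensorMod (Coh.structureModule X) P)
    obtain ⟨c⟩ := H23.PicMul.comm (Coh.structureModule X) P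
    let W := twl l (Coh.structureModule X)
    exact ⟨e₁ ≪≫ (AmpleVan.twComp P W).app F ≪≫ ((DCoh.tensorBi (X := X)).obj F).mapIso
      ((AmpleVan.tw W).mapIso ((AmpleVan.twUnit.app P).symm ≪≫ c.symm) ≪≫ e₂.symm)⟩

theorem isInvertible_word : ∀ {l : List X.Modules}, AllInv l → ∀ {F : X.Modules}, PicF.IsInvertible F →
    PicF.IsInvertible (twl l F)
  | [], _, _, hF => hF
  | P :: _, h, _, hF => isInvertible_word h.tail (InvX.isInvertible_tensorMod hF (h P List.mem_cons_self))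

theorem cl_twl : ∀ (l : List X.Modules) (F : X.Modules),
    PicF.cl (twl l F) = PicF.cl F * (l.map PicF.cl).prod
  | [], F => by simp [twl, twlF]
  | P :: l, F => by
    rw [List.map_cons, List.prod_cons, ← mul_assoc, ← cl_tensor]
    exact cl_twl l (CohB1.tensorMod F P)

variable (k : Type u) [Field k] [X.Over (Spec (CommRingCat.of k))] [IsProper (X ↘ Spec (CommRingCat.of k))]

lemma hdimk_right {S : ShortComplex X.Modules} (hS : S.ShortExact) (h₁ : Coh.IsCoh S.X₁) (h₂ : Coh.IsCoh S.X₂)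
    (h₃ : Coh.IsCoh S.X₃) (i : ℕ) : hdimk k S.X₃ i ≤ hdimk k S.X₂ i + hdimk k S.X₁ (i + 1) := by
  have := CurveCohLib.finite_HH (k := k) h₁ (i + 1)
  have := CurveCohLib.finite_HH (k := k) h₂ i
  have := CurveCohLib.finite_HH (k := k) h₃ i
  have e := LinearMap.finrank_range_add_finrank_ker (deltaLin k hS i)
  rw [CurveCohLib.ker_deltaLin k hS i] at e
  have e1 := LinearMap.finrank_range_le (mapLin k S.g i)
  have e2 := Submodule.finrank_le (LinearMap.range (deltaLin k hS i))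
  simp only [hdimk]
  omega

/-- `h^{i-1}`, read as zero for `i = 0`. -/
def hdimkPred (F : X.Modules) : ℕ → ℕ
  | 0 => 0
  | i + 1 => hdimk k F i

lemma hdimk_left' {S : ShortComplex X.Modules} (hS : S.ShortExact) (h₁ : Coh.IsCoh S.X₁) (h₂ : Coh.IsCoh S.X₂)
    (h₃ : Coh.IsCoh S.X₃) : ∀ i : ℕ, hdimk k S.X₁ i ≤ hdimk k S.X₂ i + hdimkPred k S.X₃ i
  | 0 => hdimk_left_zero k hS h₂
  | i + 1 => hdimk_left k hS h₁ h₂ h₃ i

/-- Comparison along a short exact sequence twisted by a word. -/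
theorem twl_ses {S : ShortComplex X.Modules} (hS : S.ShortExact) (h₁ : Coh.IsCoh S.X₁) (h₂ : Coh.IsCoh S.X₂)
    (h₃ : Coh.IsCoh S.X₃) {l : List X.Modules} (hl : AllInv l) (i : ℕ) :
    hdimk k (twl l S.X₁) i ≤ hdimk k (twl l S.X₂) i + hdimkPred k (twl l S.X₃) i ∧
    hdimk k (twl l S.X₂) i ≤ hdimk k (twl l S.X₁) i + hdimk k (twl l S.X₃) i ∧
    hdimk k (twl l S.X₃) i ≤ hdimk k (twl l S.X₂) i + hdimk k (twl l S.X₁) (i + 1) := by
  haveI : IsNoetherian X := CurveCohLib.isNoetherian_of_proper (k := k)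
  haveI := isEquivalence_twlF hl
  have hS' := hS.map_of_exact (twlF l)
  exact ⟨hdimk_left' k hS' (isCoh_twl hl h₁) (isCoh_twl hl h₂) (isCoh_twl hl h₃) i,
    hdimk_mid k hS' (isCoh_twl hl h₁) (isCoh_twl hl h₂) (isCoh_twl hl h₃) i,
    hdimk_right k hS' (isCoh_twl hl h₁) (isCoh_twl hl h₂) (isCoh_twl hl h₃) i⟩

include k in
/-- Sections generating at a point, of an ample power and of its twist by `P`. -/
theorem exists_two_sections {H P : X.Modules} (hH : CohB1.IsAmple H) (hP : PicF.IsInvertible P) (ξ : X) :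
    ∃ (T : X.Modules) (_ : PicF.IsInvertible T) (s : Coh.structureModule X ⟶ T)
      (t : Coh.structureModule X ⟶ CohB1.tensorMod P T),
      ξ ∈ CohB1.genLocus T s ∧ ξ ∈ CohB1.genLocus _ t := by
  haveI : IsNoetherian X := CurveCohLib.isNoetherian_of_proper (k := k)
  haveI : CompactSpace X := QuasiCompact.compactSpace_of_compactSpace (X ↘ Spec (CommRingCat.of k))
  haveI : X.IsSeparated := AmpleVan.isSeparated_of_proper (X := X) (A := k)
  obtain ⟨a, ha, hA⟩ := AmpleX.eventually_ample_tensor hH hP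
  obtain ⟨b, hb, hB⟩ := AmpleX.eventually_ample_tensor hH CurveDeg.isInvertible_structureModule
  set n := max a b
  obtain ⟨s₁, hs₁⟩ := S1664.GenSec.exists_mem_genLocus
    (InvX.isInvertible_tensorMod (InvX.isInvertible_tensorPow hH.1 n) CurveDeg.isInvertible_structureModule)
    (hB n (le_max_right _ _)).2 ξ
  obtain ⟨t₁, ht₁⟩ := S1664.GenSec.exists_mem_genLocus
    (InvX.isInvertible_tensorMod (InvX.isInvertible_tensorPow hH.1 n) hP) (hA n (le_max_left _ _)).2 ξ
  have key : ∀ {M N : X.Modules} (e : M ≅ N) (s : Coh.structureModule X ⟶ M),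
      ξ ∈ CohB1.genLocus M s → ξ ∈ CohB1.genLocus N (s ≫ e.hom) := by
    intro M N e s hs
    obtain ⟨U, hU, hξU⟩ : ∃ U : X.Opens, IsIso ((Scheme.Modules.restrictFunctor U.ι).map s) ∧ ξ ∈ U :=
      Opens.mem_sSup.1 hs
    refine Opens.mem_sSup.2 ⟨U, ?_, hξU⟩
    show IsIso ((Scheme.Modules.restrictFunctor U.ι).map (s ≫ e.hom))
    haveI : IsIso ((Scheme.Modules.restrictFunctor U.ι).map s) := hU
    rw [Functor.map_comp]
    infer_instance
  obtain ⟨c⟩ := H23.PicMul.comm (CohB1.tensorPow H n) P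
  exact ⟨CohB1.tensorPow H n, InvX.isInvertible_tensorPow hH.1 n, s₁ ≫ (AmpleVan.twUnit.app _).hom, t₁ ≫ c.hom,
    key (AmpleVan.twUnit.app _) s₁ hs₁, key c t₁ ht₁⟩

/-- A module on which every section generating near `ξ` acts injectively, supported on the closure of `ξ`. -/
structure IsPiece (A : X.Modules) (ξ : X) (d : ℕ) : Prop where
  coh : Coh.IsCoh A
  supp : CohB1.support A ⊆ closure {ξ}
  dim : topologicalKrullDim ↥(closure ({ξ} : Set X)) ≤ (d : WithBot ℕ∞)
  mono : ∀ {T : X.Modules} (s : Coh.structureModule X ⟶ T), ξ ∈ CohB1.genLocus T s → Mono (mulHom s A)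

theorem isPiece_push [IsNoetherian X] {Z : Scheme.{u}} (j : Z ⟶ X) [IsClosedImmersion j] [IsIntegral Z]
    {I : Z.Modules} (ι : I ⟶ Coh.structureModule Z) [Mono ι]
    (hI : Coh.IsQCoh I) (hI0 : ¬ IsZero I) (hA : Coh.IsCoh ((Coh.push j).obj I)) {d : ℕ}
    (hd : topologicalKrullDim ↥(closure ({j (genericPoint Z)} : Set X)) ≤ (d : WithBot ℕ∞)) :
    IsPiece ((Coh.push j).obj I) (j (genericPoint Z)) d := by
  refine ⟨hA, (QCoh.support_push_ideal j ι hI hI0).le, hd, fun s hs => ?_⟩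
  obtain ⟨U, hU, hξU⟩ : ∃ U : X.Opens, IsIso ((Scheme.Modules.restrictFunctor U.ι).map s) ∧
      j (genericPoint Z) ∈ U := Opens.mem_sSup.1 hs
  haveI : IsIso ((Scheme.Modules.restrictFunctor U.ι).map s) := hU
  exact mono_mulHom_of_mono s ((Coh.push j).map ι) (Functor.map_mono _ ι) (mono_mulHom_push j s hξU)

theorem IsPiece.coker {A : X.Modules} {ξ : X} {d : ℕ} (hA : IsPiece A ξ d) {T : X.Modules}
    (hT : PicF.IsInvertible T) (s : Coh.structureModule X ⟶ T) (hs : ξ ∈ CohB1.genLocus T s) :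
    ∃ C : X.Modules, Coh.IsCoh C ∧ DimLT C d ∧ ∀ (l : List X.Modules), AllInv l → ∀ i,
      hdimk k (twl l A) i ≤ hdimk k (twl l (CohB1.tensorMod A T)) i + hdimkPred k (twl l C) i ∧
      hdimk k (twl l (CohB1.tensorMod A T)) i ≤ hdimk k (twl l A) i + hdimk k (twl l C) i := by
  haveI : IsNoetherian X := CurveCohLib.isNoetherian_of_proper (k := k)
  haveI := hA.mono s hs
  obtain ⟨U, hU, hξU⟩ : ∃ U : X.Opens, IsIso ((Scheme.Modules.restrictFunctor U.ι).map s) ∧ ξ ∈ U :=
    Opens.mem_sSup.1 hs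
  haveI : IsIso ((Scheme.Modules.restrictFunctor U.ι).map s) := hU
  haveI := isIso_restrict_mulHom s A (U := U)
  have hP : Coh.IsCoh (CohB1.tensorMod A T) := AmpleVan.isCoh_tensor hA.coh (AmpleVan.isCoh_invertible hT)
  have hC : Coh.IsCoh (cokernel (mulHom s A)) := QCoh.isCoh_cokernel hA.coh.1 hP _
  have hS : (ShortComplex.mk (mulHom s A) (cokernel.π _) (cokernel.condition _)).ShortExact :=
    .mk' (ShortComplex.exact_of_g_is_cokernel _ (cokernelIsCokernel _)) ‹_› inferInstance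
  refine ⟨_, hC, dim_lt_closure hA.dim (QCoh.isClosed_support_of_isFT hC.1 hC.2)
    (((QCoh.support_of_epi hP.1 hC.1 (cokernel.π _)).trans (support_tensor_subset A _)).trans hA.supp)
    (notMem_support_of_isZero_restrict (isZero_restrict_cokernel U _) hξU), fun l hl i => ?_⟩
  have h := twl_ses k hS hA.coh hP hC hl i
  exact ⟨h.1, h.2.1⟩

/-- The step estimate: adding one letter changes `h^i` by the cohomology of two smaller modules. -/
theorem IsPiece.step {A : X.Modules} {ξ : X} {d : ℕ} (hA : IsPiece A ξ d) {H P : X.Modules}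
    (hH : CohB1.IsAmple H) (hP : PicF.IsInvertible P) :
    ∃ C₁ C₂ : X.Modules, Coh.IsCoh C₁ ∧ DimLT C₁ d ∧ Coh.IsCoh C₂ ∧ DimLT C₂ d ∧
      ∀ (l : List X.Modules), AllInv l → ∀ i,
        hdimk k (twl (P :: l) A) i ≤ hdimk k (twl l A) i +
          (hdimkPred k (twl (P :: l) C₁) i + hdimk k (twl l C₂) i) ∧
        hdimk k (twl l A) i ≤ hdimk k (twl (P :: l) A) i +
          (hdimk k (twl (P :: l) C₁) i + hdimkPred k (twl l C₂) i) := by
  obtain ⟨T, hT, s, t, hs, ht⟩ := exists_two_sections k hH hP ξ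
  obtain ⟨C₁, hC₁, hd₁, h₁⟩ := hA.coker k hT s hs
  obtain ⟨C₂, hC₂, hd₂, h₂⟩ := hA.coker k (InvX.isInvertible_tensorMod hP hT) t ht
  refine ⟨C₁, C₂, hC₁, hd₁, hC₂, hd₂, fun l hl i => ?_⟩
  have hPl : AllInv (P :: l) := fun Q hQ => by
    rcases List.mem_cons.1 hQ with rfl | hQ
    · exact hP
    · exact hl Q hQ
  obtain ⟨a₁, b₁⟩ := h₁ (P :: l) hPl i
  obtain ⟨a₂, b₂⟩ := h₂ l hl i
  obtain ⟨c⟩ := H23.PicMul.comm T P
  have e : hdimk k (twl (P :: l) (CohB1.tensorMod A T)) i =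
      hdimk k (twl l (CohB1.tensorMod A (CohB1.tensorMod P T))) i :=
    finrank_HH_iso k ((twlF l).mapIso
      ((AmpleVan.twComp T P).app A ≪≫ ((DCoh.tensorBi (X := X)).obj A).mapIso c)) i
  constructor <;> omega

theorem dimLT_twl {F : X.Modules} {d : ℕ} (hF : DimLT F d) (l : List X.Modules) : DimLT (twl l F) d :=
  dimLT_of_subset (support_twl l F) hF

lemma hdimkPred_eq_zero {F : X.Modules} (hF : Coh.IsCoh F) (hd : DimLT F 0) : ∀ i, hdimkPred k F i = 0
  | 0 => rfl
  | i + 1 => hdimk_eq_zero_of_dimLT k hF hd (Nat.zero_le i)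

/-- Dévissage of bounds over words. -/
theorem devissage_bound {S : Finset X.Modules} (hS : ∀ P ∈ S, PicF.IsInvertible P) {d e : ℕ} {i : ℕ}
    (hpiece : ∀ (A : X.Modules) (ξ : X), IsPiece A ξ d →
      ∃ C, ∀ l : List X.Modules, (∀ P ∈ l, P ∈ S) → hdimk k (twl l A) i ≤ C * (l.length + 1) ^ e)
    {F : X.Modules} (hF : Coh.IsCoh F) (hdim : DimLT F (d + 1)) :
    ∃ C, ∀ l : List X.Modules, (∀ P ∈ l, P ∈ S) → hdimk k (twl l F) i ≤ C * (l.length + 1) ^ e := by
  haveI : IsNoetherian X := CurveCohLib.isNoetherian_of_proper (k := k)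
  induction QCoh.filt_of_isCoh hF with
  | @zero F₀ h =>
    refine ⟨0, fun l hl => le_of_eq ?_⟩
    rw [zero_mul]
    haveI := isEquivalence_twlF (l := l) fun P hP => hS P (hl P hP)
    haveI : Subsingleton (Coh.HH X (twl l F₀) i) :=
      Euler.subsingleton_HH_of_isZero ((twlF l).map_isZero h) i
    exact Module.finrank_zero_of_subsingleton
  | @step F₁ M' φ _ _ hNc hMc hex ih =>
    obtain ⟨Z, j, hj, hZ, I, ι, hι, hI, hI0, ⟨e'⟩⟩ := hex
    haveI := hj; haveI := hZ; haveI := hι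
    have hc := QCoh.isCoh_cokernel hNc.1 hMc φ
    have hA : Coh.IsCoh ((Coh.push j).obj I) := QCoh.isCoh_of_mono (e'.inv) hc (QCoh.isQCoh_pushforward j hI)
    have hξd : topologicalKrullDim ↥(closure ({j (genericPoint Z)} : Set X)) ≤ (d : WithBot ℕ∞) := by
      rw [← QCoh.support_push_ideal j ι hI hI0, ← QCoh.support_iso e' hc.1]
      exact le_of_lt_succ ((H23.TopDim.dim_le_dim_of_subset
        (QCoh.support_of_epi hMc.1 hc.1 (cokernel.π φ))).trans_lt hdim)
    obtain ⟨C₁, h₁⟩ :=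
      ih hNc ((H23.TopDim.dim_le_dim_of_subset (QCoh.mem_support_of_mono hNc.1 hMc.1 φ)).trans_lt hdim)
    obtain ⟨C₂, h₂⟩ := hpiece _ _ (isPiece_push j ι hI hI0 hA hξd)
    refine ⟨C₁ + C₂, fun l hl => ?_⟩
    have hS' : (ShortComplex.mk φ (cokernel.π φ) (cokernel.condition φ)).ShortExact :=
      .mk' (ShortComplex.exact_of_g_is_cokernel _ (cokernelIsCokernel φ)) ‹_› inferInstance
    rw [add_mul]
    exact (twl_ses k hS' hNc hMc hc (fun P hP => hS P (hl P hP)) i).2.1.trans (add_le_add (h₁ l hl)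
      ((finrank_HH_iso k ((twlF l).mapIso e') i).le.trans (h₂ l hl)))

/-- Adjacent words: `h^i` changes by one degree less. -/
theorem step_bound {H : X.Modules} (hH : CohB1.IsAmple H) {S : Finset X.Modules} (hS : ∀ P ∈ S, PicF.IsInvertible P)
    {d : ℕ} (IH : ∀ (F : X.Modules), Coh.IsCoh F → DimLT F (d + 1) → ∀ i,
      ∃ C, ∀ l : List X.Modules, (∀ P ∈ l, P ∈ S) → hdimk k (twl l F) i ≤ C * (l.length + 1) ^ d)
    {A : X.Modules} {ξ : X} (hA : IsPiece A ξ (d + 1)) (i : ℕ) :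
    ∃ K, ∀ (P : X.Modules) (l : List X.Modules), P ∈ S → (∀ Q ∈ l, Q ∈ S) →
      hdimk k (twl (P :: l) A) i ≤ hdimk k (twl l A) i + K * (l.length + 2) ^ d ∧
      hdimk k (twl l A) i ≤ hdimk k (twl (P :: l) A) i + K * (l.length + 2) ^ d := by
  classical
  have IHp : ∀ C : X.Modules, Coh.IsCoh C → DimLT C (d + 1) → ∀ i,
      ∃ K, ∀ l : List X.Modules, (∀ P ∈ l, P ∈ S) →
        hdimk k (twl l C) i ≤ K * (l.length + 1) ^ d ∧ hdimkPred k (twl l C) i ≤ K * (l.length + 1) ^ d := by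
    intro C hC hCd i
    obtain ⟨K₁, h₁⟩ := IH C hC hCd i
    cases i with
    | zero => exact ⟨K₁, fun l hl => ⟨h₁ l hl, Nat.zero_le _⟩⟩
    | succ i =>
      obtain ⟨K₂, h₂⟩ := IH C hC hCd i
      exact ⟨K₁ + K₂, fun l hl => ⟨(h₁ l hl).trans (Nat.mul_le_mul_right _ (Nat.le_add_right _ _)),
        (h₂ l hl).trans (Nat.mul_le_mul_right _ (Nat.le_add_left _ _))⟩⟩
  have hone : ∀ P : S, ∃ K, ∀ l : List X.Modules, (∀ Q ∈ l, Q ∈ S) →
      hdimk k (twl (P.1 :: l) A) i ≤ hdimk k (twl l A) i + K * (l.length + 2) ^ d ∧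
      hdimk k (twl l A) i ≤ hdimk k (twl (P.1 :: l) A) i + K * (l.length + 2) ^ d := by
    intro P
    obtain ⟨C₁, C₂, hC₁, hd₁, hC₂, hd₂, h⟩ := hA.step k hH (hS P.1 P.2)
    obtain ⟨K₁, hK₁⟩ := IHp C₁ hC₁ hd₁ i
    obtain ⟨K₂, hK₂⟩ := IHp C₂ hC₂ hd₂ i
    refine ⟨K₁ + K₂, fun l hl => ?_⟩
    obtain ⟨u₁, v₁⟩ := hK₁ (P.1 :: l) fun Q hQ => by
      rcases List.mem_cons.1 hQ with rfl | hQ
      · exact P.2
      · exact hl Q hQ
    obtain ⟨u₂, v₂⟩ := hK₂ l hl
    obtain ⟨a, b⟩ := h l (fun Q hQ => hS Q (hl Q hQ)) i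
    rw [List.length_cons, show l.length + 1 + 1 = l.length + 2 from rfl] at u₁ v₁
    have hp : K₂ * (l.length + 1) ^ d ≤ K₂ * (l.length + 2) ^ d :=
      Nat.mul_le_mul_left _ (Nat.pow_le_pow_left (by omega) d)
    rw [add_mul]
    constructor <;> omega
  choose K hK using hone
  refine ⟨∑ P : S, K P, fun P l hP hl => ?_⟩
  obtain ⟨a, b⟩ := hK ⟨P, hP⟩ l hl
  change hdimk k (twl (P :: l) A) i ≤ _ at a
  change _ ≤ hdimk k (twl (P :: l) A) i + _ at b
  have : K ⟨P, hP⟩ * (l.length + 2) ^ d ≤ (∑ P : S, K P) * (l.length + 2) ^ d :=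
    Nat.mul_le_mul_right _ (Finset.single_le_sum (fun Q _ => Nat.zero_le (K Q)) (Finset.mem_univ _))
  constructor <;> omega

/-- `h^i(F ⊗ w) = O(|w|^{dim})` for words `w` in finitely many invertible modules. -/
theorem growth {H : X.Modules} (hH : CohB1.IsAmple H) {S : Finset X.Modules} (hS : ∀ P ∈ S, PicF.IsInvertible P) :
    ∀ (d : ℕ) (F : X.Modules), Coh.IsCoh F → DimLT F (d + 1) → ∀ i,
      ∃ C, ∀ l : List X.Modules, (∀ P ∈ l, P ∈ S) → hdimk k (twl l F) i ≤ C * (l.length + 1) ^ d := by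
  classical
  haveI : IsNoetherian X := CurveCohLib.isNoetherian_of_proper (k := k)
  intro d
  induction d with
  | zero =>
    intro F hF hdim i
    refine devissage_bound k hS (fun A ξ hA => ⟨hdimk k A i, fun l => ?_⟩) hF hdim
    induction l with
    | nil => intro _; simp [twl, twlF]
    | cons P l ih =>
      intro hl
      obtain ⟨C₁, C₂, hC₁, hd₁, hC₂, hd₂, h⟩ := hA.step k hH (hS P (hl P List.mem_cons_self))
      have hl' : AllInv l := fun Q hQ => hS Q (hl Q (List.mem_cons_of_mem _ hQ))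
      have hPl : AllInv (P :: l) := fun Q hQ => hS Q (hl Q hQ)
      have h1 := (h l hl' i).1
      rw [hdimkPred_eq_zero k (isCoh_twl hPl hC₁) (dimLT_twl hd₁ _),
        hdimk_eq_zero_of_dimLT k (isCoh_twl hl' hC₂) (dimLT_twl hd₂ _) (Nat.zero_le i)] at h1
      have h2 := ih fun Q hQ => hl Q (List.mem_cons_of_mem _ hQ)
      rw [pow_zero] at h2 ⊢
      omega
  | succ d IH =>
    intro F hF hdim i
    refine devissage_bound k hS (fun A ξ hA => ?_) hF hdim
    obtain ⟨K, hK⟩ := step_bound k hH hS IH hA i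
    refine ⟨hdimk k A i + K, fun l => ?_⟩
    induction l with
    | nil => intro _; simp [twl, twlF]
    | cons P l ih =>
      intro hl
      have h2 := ih fun Q hQ => hl Q (List.mem_cons_of_mem _ hQ)
      have h1 := (hK P l (hl P List.mem_cons_self) fun Q hQ => hl Q (List.mem_cons_of_mem _ hQ)).1
      have h3 : (l.length + 1) ^ (d + 1) ≤ (l.length + 2) ^ d * (l.length + 1) := by
        rw [pow_succ]
        exact Nat.mul_le_mul_right _ (Nat.pow_le_pow_left (by omega) d)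
      rw [List.length_cons, pow_succ]
      calc hdimk k (twl (P :: l) A) i
          ≤ (hdimk k A i + K) * ((l.length + 2) ^ d * (l.length + 1)) + K * (l.length + 2) ^ d :=
            h1.trans (Nat.add_le_add_right (h2.trans (Nat.mul_le_mul_left _ h3)) _)
        _ ≤ (hdimk k A i + K) * ((l.length + 2) ^ d * (l.length + 1)) +
              (hdimk k A i + K) * (l.length + 2) ^ d :=
            Nat.add_le_add_left (Nat.mul_le_mul_right _ (Nat.le_add_left K _)) _
        _ = (hdimk k A i + K) * ((l.length + 1 + 1) ^ d * (l.length + 1 + 1)) := by ring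
end Groth.Agent.AsympCoh
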