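import Groth.Agent.AsympCoh.Hom

/-!
# Asymptotic functions on multiples of finitely many invertible modules
-/

set_option linter.style.haveILetI false
set_option linter.unusedSectionVars false
set_option backward.isDefEq.respectTransparency false
set_option backward.isDefEq.respectTransparency.types false

universe u

open CategoryTheory CategoryTheory.Limits AlgebraicGeometry TopologicalSpace Opposite
open Groth.Agent.H23.PicMul W4c5asymptcohfn

noncomputable section

namespace Groth.Agent.AsympCoh

open Groth.Agent Groth.Agent.HilbPoly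

variable {X : Scheme.{u}}

theorem isInvertible_of_isInverseOf {L M : X.Modules} (hL : PicF.IsInvertible L) (h : ClSub.IsInverseOf L M) :
    PicF.IsInvertible M := by
  obtain ⟨D, hD, hLD⟩ := H23.PicInv.exists_inverse hL
  have h1 : PicF.cl L * PicF.cl M = 1 := cl_eq_iff.2 h
  have h2 : PicF.cl L * PicF.cl D = 1 := cl_eq_iff.2 hLD
  obtain ⟨e⟩ := cl_eq_iff.1 ((left_inv_eq_right_inv ((mul_comm (PicF.cl M) _).trans h1) h2).symm)
  exact H23.PicMul.isInvertible_of_iso e hD

variable {r : ℕ} (L M : Fin r → X.Modules)

/-- The word of an exponent vector. -/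
def zword (a : Fin r → ℤ) : List X.Modules :=
  (List.finRange r).flatMap fun j => List.replicate (a j).toNat (L j) ++ List.replicate (-(a j)).toNat (M j)

theorem prod_zword (a : Fin r → ℤ) : ((zword L M a).map PicF.cl).prod = PicF.cl (ztwist X L M a) :=
  prod_ztwist L M a

theorem length_zword (a : Fin r → ℤ) : ((zword L M a).length : ℝ) = ∑ j, |(a j : ℝ)| := by
  rw [zword, List.length_flatMap]
  simp only [List.length_append, List.length_replicate, Fin.sum_univ_def, Nat.cast_list_sum, List.map_map]
  refine congrArg List.sum (List.map_congr_left fun j _ => ?_)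
  simp only [Function.comp_apply]
  have h : (((a j).toNat + (-(a j)).toNat : ℕ) : ℤ) = |a j| := by
    rcases le_total 0 (a j) with h | h
    · rw [abs_of_nonneg h]; omega
    · rw [abs_of_nonpos h]; omega
  exact_mod_cast congrArg (fun z : ℤ => (z : ℝ)) h

theorem length_zword_le (a : Fin r → ℤ) :
    ((zword L M a).length : ℝ) ≤ (r : ℝ) * ‖(fun j => ((a j : ℤ) : ℝ))‖ := by
  rw [length_zword]
  refine (Finset.sum_le_card_nsmul _ _ _ fun j _ => norm_le_pi_norm (fun j => ((a j : ℤ) : ℝ)) j).trans ?_
  simp

open scoped Classical in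
/-- The letters. -/
def letters : Finset X.Modules := Finset.univ.image L ∪ Finset.univ.image M

theorem mem_letters (a : Fin r → ℤ) : ∀ Q ∈ zword L M a, Q ∈ letters L M := by
  classical
  intro Q hQ
  obtain ⟨j, -, hj⟩ := List.mem_flatMap.1 hQ
  rw [letters, Finset.mem_union, Finset.mem_image, Finset.mem_image]
  rcases List.mem_append.1 hj with h | h
  · exact Or.inl ⟨j, Finset.mem_univ _, (List.eq_of_mem_replicate h).symm⟩
  · exact Or.inr ⟨j, Finset.mem_univ _, (List.eq_of_mem_replicate h).symm⟩

variable {L M} (hL : ∀ j, PicF.IsInvertible (L j)) (hM : ∀ j, ClSub.IsInverseOf (L j) (M j))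
include hL hM

theorem isInvertible_letters : ∀ P ∈ letters L M, PicF.IsInvertible P := by
  classical
  intro P hP
  rw [letters, Finset.mem_union, Finset.mem_image, Finset.mem_image] at hP
  rcases hP with ⟨j, -, rfl⟩ | ⟨j, -, rfl⟩
  · exact hL j
  · exact isInvertible_of_isInverseOf (hL j) (hM j)

theorem isInvertible_ztwist (a : Fin r → ℤ) : PicF.IsInvertible (ztwist X L M a) := by
  obtain ⟨e⟩ := cl_eq_iff.1 (show PicF.cl (twl (zword L M a) (Coh.structureModule X)) = PicF.cl (ztwist X L M a) by
    rw [cl_twl, prod_zword, ← one_def, one_mul])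
  exact H23.PicMul.isInvertible_of_iso e
    (isInvertible_word (fun P hP => isInvertible_letters hL hM P (mem_letters L M a P hP))
      CurveDeg.isInvertible_structureModule)

/-- The classes of the words are additive. -/
theorem prod_zword_append (a b : Fin r → ℤ) :
    ((zword L M (fun j => a j - b j) ++ zword L M b).map PicF.cl).prod = PicF.cl (ztwist X L M a) := by
  let u : Fin r → (PicF.Cl X)ˣ := fun j =>
    ⟨PicF.cl (L j), PicF.cl (M j), cl_eq_iff.2 (hM j), (mul_comm _ _).trans (cl_eq_iff.2 (hM j))⟩
  have key : ∀ c : Fin r → ℤ, ((zword L M c).map PicF.cl).prod = ↑(∏ j, u j ^ c j) := fun c => by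
    rw [zword, List.map_flatMap, List.flatMap_def, List.prod_flatten, List.map_map, Units.coe_prod, Fin.prod_univ_def]
    refine congrArg List.prod (List.map_congr_left fun j _ => ?_)
    simp only [Function.comp_apply]
    rw [List.map_append, List.prod_append, List.map_replicate, List.map_replicate, List.prod_replicate,
      List.prod_replicate]
    cases c j with
    | ofNat m => simp [u]
    | negSucc m =>
      rw [zpow_negSucc, ← inv_pow]
      simp [u, Int.toNat_negSucc]
  rw [List.map_append, List.prod_append, key, key, ← Units.val_mul, ← Finset.prod_mul_distrib, ← prod_zword, key]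
  refine congrArg Units.val (Finset.prod_congr rfl fun j _ => ?_)
  rw [← zpow_add, sub_add_cancel]

end Groth.Agent.AsympCoh
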